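import Groth.Agent.Grpd6.CharRev
import Mathlib.Algebra.MvPolynomial.Eval
import Mathlib.LinearAlgebra.Matrix.ToLinearEquiv
import Mathlib.FieldTheory.IsAlgClosed.Basic
import Mathlib.RingTheory.Ideal.GoingUp

/-!
Geometric fibres of the quotient of an affine groupoid.
-/

universe u

open CategoryTheory AlgebraicGeometry Limits Matrix
open scoped TensorProduct

set_option backward.isDefEq.respectTransparency.types false

noncomputable section

namespace Groth.Agent.Grpd6.Fibres

open CharRev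

variable {A B : Type u} [CommRing A] [CommRing B] [Algebra A B]

/-- the multivariate characteristic polynomial -/
def gen {n m : ℕ} (M : Fin m → Matrix (Fin n) (Fin n) A) : MvPolynomial (Fin m) A :=
  (1 - ∑ j, (MvPolynomial.X j : MvPolynomial (Fin m) A) • (M j).map MvPolynomial.C).det

theorem map_gen {A' : Type u} [CommRing A'] (φ : A →+* A') {n m : ℕ} (M : Fin m → Matrix (Fin n) (Fin n) A) :
    (gen M).map φ = gen fun j => (M j).map φ := by
  rw [gen, gen, RingHom.map_det]
  congr 1
  ext a b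
  by_cases h : a = b <;> simp [h, Matrix.sum_apply]

theorem eval_gen {k : Type u} [CommRing k] (x : A →+* k) {n m : ℕ} (M : Fin m → Matrix (Fin n) (Fin n) A)
    (μ : Fin m → k) : MvPolynomial.eval₂ x μ (gen M) = (1 - ∑ j, μ j • (M j).map x).det := by
  rw [← MvPolynomial.coe_eval₂Hom, gen, RingHom.map_det]
  congr 1
  ext a b
  by_cases h : a = b <;> simp [h, Matrix.sum_apply]

theorem gen_eq {n m r : ℕ} (P : Split A B n) (Q : Split A B r) (z : Fin m → B) :
    gen (fun j => mat P (z j)) = gen (fun j => mat Q (z j)) := by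
  let T := LinearMap.toMatrix' (P.i ∘ₗ Q.p)
  let V := fun j => LinearMap.toMatrix' (Q.i ∘ₗ LinearMap.mulLeft A (z j) ∘ₗ P.p)
  have h1 : ∀ j, mat P (z j) = T * V j := fun j => by
    rw [mat, ← LinearMap.toMatrix'_comp]
    refine congrArg LinearMap.toMatrix' (LinearMap.ext fun x => ?_)
    simp only [LinearMap.comp_apply]
    rw [show Q.p (Q.i (LinearMap.mulLeft A (z j) (P.p x))) = LinearMap.mulLeft A (z j) (P.p x) from LinearMap.congr_fun Q.h _]
  have h2 : ∀ j, mat Q (z j) = V j * T := fun j => by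
    rw [mat, ← LinearMap.toMatrix'_comp]
    refine congrArg LinearMap.toMatrix' (LinearMap.ext fun x => ?_)
    simp only [LinearMap.comp_apply]
    rw [show P.p (P.i (Q.p x)) = Q.p x from LinearMap.congr_fun P.h _]
  let W : Matrix (Fin r) (Fin n) (MvPolynomial (Fin m) A) :=
    ∑ j, (MvPolynomial.X j : MvPolynomial (Fin m) A) • (V j).map MvPolynomial.C
  have e1 : ∑ j, (MvPolynomial.X j : MvPolynomial (Fin m) A) • (mat P (z j)).map MvPolynomial.C = T.map MvPolynomial.C * W := by
    rw [Matrix.mul_sum]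
    exact Finset.sum_congr rfl fun j _ => by rw [h1 j, Matrix.map_mul, Matrix.mul_smul]
  have e2 : ∑ j, (MvPolynomial.X j : MvPolynomial (Fin m) A) • (mat Q (z j)).map MvPolynomial.C = W * T.map MvPolynomial.C := by
    rw [Matrix.sum_mul]
    exact Finset.sum_congr rfl fun j _ => by rw [h2 j, Matrix.map_mul, Matrix.smul_mul]
  rw [gen, gen, e1, e2, Matrix.det_one_sub_mul_comm]

theorem vecMul_map {n : ℕ} (P : Split A B n) {k : Type u} [CommRing k] (x : A →+* k) (y : B →+* k)
    (hy : y.comp (algebraMap A B) = x) (b : B) :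
    (fun a => y (P.p (Pi.single a 1))) ᵥ* (mat P b).map x = fun a => y b * y (P.p (Pi.single a 1)) := by
  funext a
  simp only [Matrix.vecMul, dotProduct, Matrix.map_apply, mat, LinearMap.toMatrix'_apply, LinearMap.comp_apply,
    LinearMap.mulLeft_apply]
  have key : ∀ v : Fin n → A, y (P.p v) = ∑ i, y (P.p (Pi.single i 1)) * x (v i) := fun v => by
    conv_lhs => rw [pi_eq_sum_univ' v]
    simp only [map_sum, map_smul]
    simp only [Algebra.smul_def, map_mul, ← hy, RingHom.comp_apply]
    exact Finset.sum_congr rfl fun i _ => mul_comm _ _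
  rw [← key, show P.p (P.i (b * P.p (Pi.single a 1))) = b * P.p (Pi.single a 1) from LinearMap.congr_fun P.h _, map_mul]

/-- the value of a point of the unit is separated by the polynomial from the values of the other points -/
theorem exists_point {k : Type u} [Field k] [IsAlgClosed k] {n : ℕ} (P : Split A B n) (τ : A →+* B) (ε : B →+* A)
    (hε : ε.comp (algebraMap A B) = RingHom.id A) (hετ : ε.comp τ = RingHom.id A) (x₀ x₁ : A →+* k)
    (hinv : ∀ (m : ℕ) (f : Fin m → A) (μ : Fin m → k),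
      MvPolynomial.eval₂ x₀ μ (gen fun j => mat P (τ (f j))) = MvPolynomial.eval₂ x₁ μ (gen fun j => mat P (τ (f j)))) :
    ∃ y : B →+* k, y.comp (algebraMap A B) = x₁ ∧ y.comp τ = x₀ := by
  classical
  by_contra hne
  push_neg at hne
  letI : Algebra A k := x₁.toAlgebra
  have : Module.Finite A B := Module.Finite.of_surjective P.p fun b => ⟨P.i b, LinearMap.congr_fun P.h b⟩
  have : Finite ((k ⊗[A] B) →ₐ[k] k) := inferInstance
  let Y := (k ⊗[A] B) →ₐ[k] k
  let res : Y → (B →+* k) := fun φ => φ.toRingHom.comp (Algebra.TensorProduct.includeRight : B →ₐ[A] k ⊗[A] B).toRingHom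
  have hres : ∀ φ, (res φ).comp (algebraMap A B) = x₁ := fun φ => RingHom.ext fun a => by
    show φ ((Algebra.TensorProduct.includeRight : B →ₐ[A] k ⊗[A] B) (algebraMap A B a)) = x₁ a
    rw [AlgHom.commutes, IsScalarTower.algebraMap_apply A k (k ⊗[A] B), AlgHom.commutes]
    rfl
  have hd : ∀ φ : Y, ∃ f : A, x₀ f ≠ res φ (τ f) := fun φ => by
    by_contra h
    push_neg at h
    exact hne (res φ) (hres φ) (RingHom.ext fun a => (h a).symm)
  choose f hf using hd
  let m := Nat.card Y
  let idx : Fin m ≃ Y := (Finite.equivFin Y).symm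
  let F : Fin (m + 1) → A := Fin.cons 1 fun j => f (idx j)
  let G₀ : Polynomial k := ∑ j : Fin (m + 1), Polynomial.monomial j.1 (x₀ (F j))
  let D : Y → Polynomial k := fun φ => ∑ j : Fin (m + 1), Polynomial.monomial j.1 (x₀ (F j) - res φ (τ (F j)))
  have hcoeff : ∀ (c : Fin (m + 1) → k) (i : Fin (m + 1)),
      (∑ j : Fin (m + 1), Polynomial.monomial j.1 (c j)).coeff i.1 = c i := fun c i => by
    simp [Polynomial.finsetSum_coeff, Polynomial.coeff_monomial, Fin.val_inj]
  have hG : G₀ ≠ 0 := fun h => by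
    have := hcoeff (fun j => x₀ (F j)) 0
    rw [show (∑ j : Fin (m + 1), Polynomial.monomial j.1 (x₀ (F j))) = 0 from h] at this
    simp [F] at this
  have hD : ∀ φ, D φ ≠ 0 := fun φ h => by
    have := hcoeff (fun j => x₀ (F j) - res φ (τ (F j))) (idx.symm φ).succ
    rw [show (∑ j : Fin (m + 1), Polynomial.monomial j.1 (x₀ (F j) - res φ (τ (F j)))) = 0 from h] at this
    simp only [Polynomial.coeff_zero, F, Fin.cons_succ, Equiv.apply_symm_apply] at this
    exact hf φ (sub_eq_zero.1 this.symm)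
  haveI : Fintype Y := Fintype.ofFinite Y
  obtain ⟨l, hl⟩ : ∃ l : k, (G₀ * ∏ φ, D φ).eval l ≠ 0 := by
    by_contra h
    push_neg at h
    exact mul_ne_zero hG (Finset.prod_ne_zero_iff.2 fun φ _ => hD φ) (Polynomial.funext fun r => by simpa using h r)
  rw [Polynomial.eval_mul, Polynomial.eval_prod, mul_ne_zero_iff, Finset.prod_ne_zero_iff] at hl
  let g := G₀.eval l
  let μ : Fin (m + 1) → k := fun j => g⁻¹ * l ^ j.1
  have hgval : g = ∑ j : Fin (m + 1), l ^ j.1 * x₀ (F j) := by
    simp [g, G₀, Polynomial.eval_finsetSum, mul_comm]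
  -- the determinant vanishes at `x₀`
  let y₀ : B →+* k := x₀.comp ε
  have hy₀ : y₀.comp (algebraMap A B) = x₀ := by rw [RingHom.comp_assoc, hε, RingHom.comp_id]
  let v : Fin n → k := fun a => y₀ (P.p (Pi.single a 1))
  have hv : v ≠ 0 := fun h => by
    have h1 : y₀ (P.p (P.i 1)) = 0 := by
      conv_lhs => rw [pi_eq_sum_univ' (P.i 1)]
      simp only [map_sum, map_smul]
      simp only [Algebra.smul_def, map_mul]
      exact Finset.sum_eq_zero fun a _ => by rw [show y₀ (P.p (Pi.single a 1)) = v a from rfl, h]; simp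
    rw [show P.p (P.i 1) = 1 from LinearMap.congr_fun P.h 1, map_one] at h1
    exact one_ne_zero h1
  have hdet₀ : MvPolynomial.eval₂ x₀ μ (gen fun j => mat P (τ (F j))) = 0 := by
    rw [eval_gen]
    refine Matrix.exists_vecMul_eq_zero_iff.1 ⟨v, hv, ?_⟩
    rw [Matrix.vecMul_sub, Matrix.vecMul_one, Matrix.vecMul_sum]
    simp only [Matrix.vecMul_smul, v, vecMul_map P x₀ y₀ hy₀]
    funext a
    simp only [Pi.sub_apply, Finset.sum_apply, Pi.smul_apply, smul_eq_mul, Pi.zero_apply]
    have hy : ∀ c, y₀ (τ c) = x₀ c := fun c => congrArg x₀ (RingHom.congr_fun hετ c)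
    simp only [hy, μ, ← mul_assoc]
    rw [← Finset.sum_mul]
    simp only [mul_assoc]
    rw [← Finset.mul_sum, ← hgval, inv_mul_cancel₀ hl.1, one_mul, sub_self]
  rw [hinv, eval_gen] at hdet₀
  -- hence a point over `x₁`
  letI : Algebra B (k ⊗[A] B) := Algebra.TensorProduct.rightAlgebra
  haveI : IsScalarTower A B (k ⊗[A] B) := IsScalarTower.of_algebraMap_eq' (Algebra.TensorProduct.includeRight : B →ₐ[A] k ⊗[A] B).comp_algebraMap.symm
  obtain ⟨P', hP''⟩ := exists_baseChange (A' := k) (B' := k ⊗[A] B) P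
  have hP' : ∀ j, mat P' (algebraMap B (k ⊗[A] B) (τ (F j))) = (mat P (τ (F j))).map x₁ := fun j => hP'' _
  let w : k ⊗[A] B := ∑ j, μ j • algebraMap B (k ⊗[A] B) (τ (F j))
  have hw : mat P' w = ∑ j, μ j • (mat P (τ (F j))).map x₁ := by
    simp only [← hP', w, mat]
    ext a b
    simp [Matrix.sum_apply, LinearMap.toMatrix'_apply, Finset.sum_mul, map_sum]
    refine Finset.sum_congr rfl fun x _ => ?_
    congr 1
    simpa [mat, LinearMap.toMatrix'_apply] using congrFun (congrFun (hP' x) a) b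
  rw [← hw] at hdet₀
  obtain ⟨u, hu, hu0⟩ := Matrix.exists_mulVec_eq_zero_iff.2 hdet₀
  rw [Matrix.sub_mulVec, Matrix.one_mulVec, sub_eq_zero, mat, LinearMap.toMatrix'_mulVec] at hu0
  simp only [LinearMap.comp_apply, LinearMap.mulLeft_apply] at hu0
  have hb : P'.p u ≠ 0 := fun h => hu (by rw [hu0, h, mul_zero, map_zero])
  have hb' : w * P'.p u = P'.p u := by
    conv_rhs => rw [hu0]
    exact (LinearMap.congr_fun P'.h _).symm
  have hnu : ¬ IsUnit (1 - w) := fun h => hb ((h.mul_right_eq_zero).1 (by rw [sub_mul, one_mul, hb', sub_self]))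
  obtain ⟨M, hM, hMw⟩ := exists_max_ideal_of_mem_nonunits (mem_nonunits_iff.2 hnu)
  have : Module.Finite k (k ⊗[A] B) := inferInstance
  have : M.IsMaximal := hM
  letI := Ideal.Quotient.field M
  have hbij : Function.Bijective (Algebra.ofId k ((k ⊗[A] B) ⧸ M)) :=
    (IsAlgClosed.algebraMap_bijective_of_isIntegral : Function.Bijective (algebraMap k ((k ⊗[A] B) ⧸ M)))
  let φ : Y := (AlgEquiv.ofBijective (Algebra.ofId k ((k ⊗[A] B) ⧸ M)) hbij).symm.toAlgHom.comp (Ideal.Quotient.mkₐ k M)
  have hφ : φ (1 - w) = 0 := by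
    show (AlgEquiv.ofBijective (Algebra.ofId k ((k ⊗[A] B) ⧸ M)) hbij).symm (Ideal.Quotient.mk M (1 - w)) = 0
    rw [Ideal.Quotient.eq_zero_iff_mem.2 hMw, map_zero]
  rw [map_sub, map_one, sub_eq_zero] at hφ
  have hw' : φ w = ∑ j, μ j * res φ (τ (F j)) := by
    simp only [w, map_sum, map_smul, smul_eq_mul]
    rfl
  apply hl.2 φ (Finset.mem_univ φ)
  have hD' : (D φ).eval l = g - ∑ j : Fin (m + 1), l ^ j.1 * res φ (τ (F j)) := by
    simp only [D, Polynomial.eval_finsetSum, Polynomial.eval_monomial, hgval, ← Finset.sum_sub_distrib]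
    exact Finset.sum_congr rfl fun j _ => by ring
  have h1 : g⁻¹ * ∑ j : Fin (m + 1), l ^ j.1 * res φ (τ (F j)) = 1 := by
    rw [Finset.mul_sum, hφ, hw']
    exact Finset.sum_congr rfl fun j _ => by simp only [μ]; ring
  rw [hD', sub_eq_zero]
  exact (inv_mul_eq_one₀ hl.1).1 h1

end Groth.Agent.Grpd6.Fibres

end
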