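import Groth.Agent.Grpd6.BasisCore

/-!
Bases of invariants of an affine groupoid scheme.
-/

universe u

open CategoryTheory AlgebraicGeometry Limits

set_option backward.isDefEq.respectTransparency.types false

noncomputable section

namespace Groth.Agent.Grpd6.BasisQuot

open Basic

variable {S : Scheme.{u}} {G : Grpd.GroupoidScheme S} [IsAffine G.U] [IsAffine G.R]

theorem square_c : IsPushout G.s.appTop G.s.appTop (pullback.snd G.s G.t).appTop G.c.appTop :=
  (isPushout_appTop_of_isPullback (isPullback_c (G := G))).flip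

theorem square_fst : IsPushout G.t.appTop G.s.appTop (pullback.snd G.s G.t).appTop (pullback.fst G.s G.t).appTop :=
  (isPushout_appTop_of_isPullback (IsPullback.of_hasPullback G.s G.t)).flip

omit [IsAffine G.U] [IsAffine G.R] in
theorem square_t : G.t.appTop ≫ G.c.appTop = G.t.appTop ≫ (pullback.fst G.s G.t).appTop := by
  rw [← Scheme.Hom.comp_appTop, ← Scheme.Hom.comp_appTop]
  refine congrArg (fun φ : pullback G.s G.t ⟶ G.U => φ.appTop) ?_
  have := G.comp_t (pullback.fst G.s G.t) (pullback.snd G.s G.t) pullback.condition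
  rwa [show pullback.lift (pullback.fst G.s G.t) (pullback.snd G.s G.t) pullback.condition = 𝟙 _ by
    apply pullback.hom_ext <;> simp [pullback.lift_fst, pullback.lift_snd], Category.id_comp] at this

omit [IsAffine G.U] [IsAffine G.R] in
theorem sect : G.s.appTop ≫ G.e.appTop = 𝟙 _ ∧ G.t.appTop ≫ G.e.appTop = 𝟙 _ := by
  constructor
  · rw [← Scheme.Hom.comp_appTop, G.e_s]; rfl
  · rw [← Scheme.Hom.comp_appTop, G.e_t]; rfl

theorem main (I : Type u) (x : I → Γ(G.U, ⊤))
    (hB : letI := G.s.appTop.hom.toAlgebra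
      ∃ b : Module.Basis I Γ(G.U, ⊤) Γ(G.R, ⊤), ∀ i, b i = G.t.appTop.hom (x i)) :
    (∃ b : Module.Basis I G.invariants Γ(G.U, ⊤), ∀ i, b i = x i) ∧
      (letI := (G.s.appTop.hom.comp G.invariants.subtype).toAlgebra
       ∀ φ : TensorProduct G.invariants Γ(G.U, ⊤) Γ(G.U, ⊤) →ₗ[G.invariants] Γ(G.R, ⊤),
        (∀ a a' : Γ(G.U, ⊤), φ (a ⊗ₜ[G.invariants] a') = G.t.appTop.hom a * G.s.appTop.hom a') → Function.Bijective φ) := by
  obtain ⟨b₀, hb₀⟩ := BasisCore.exists_basis G.s.appTop G.t.appTop _ G.c.appTop _ G.e.appTop square_c square_fst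
    square_t sect.1 sect.2 (C := G.invariants) Subtype.val_injective
    (fun a => ⟨by rintro ⟨d, rfl⟩; exact d.2, fun h => ⟨⟨a, h⟩, rfl⟩⟩) x hB
  refine ⟨⟨b₀, hb₀⟩, ?_⟩
  intro φ hφ
  exact BasisCore.bijective G.s.appTop G.t.appTop x b₀ hb₀ hB (fun d => d.2.symm) φ.toAddMonoidHom hφ

end Groth.Agent.Grpd6.BasisQuot

end
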