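import Groth.Agent.Grpd6.Fibres
import Mathlib.AlgebraicGeometry.ResidueField
import Mathlib.FieldTheory.IsAlgClosed.AlgebraicClosure

/-!
The quotient map of an affine groupoid scheme with finite projective source map.
-/

universe u

open CategoryTheory AlgebraicGeometry Limits

set_option linter.style.haveILetI false
set_option backward.isDefEq.respectTransparency.types false

noncomputable section

namespace Groth.Agent.Grpd6.QuotFibres

open CharRev Basic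

variable {S : Scheme.{u}} {G : Grpd.GroupoidScheme S}

theorem mem_iff (a : Γ(G.U, ⊤)) : a ∈ G.invariants ↔ G.s.appTop.hom a = G.t.appTop.hom a := Iff.rfl

theorem t_toQuot : G.t ≫ G.toQuot = G.s ≫ G.toQuot := by
  simp only [Grpd.GroupoidScheme.toQuot, Scheme.toSpecΓ_naturality_assoc, ← Spec.map_comp]
  refine congrArg (G.R.toSpecΓ ≫ ·) (congrArg Spec.map (CommRingCat.hom_ext (RingHom.ext fun c => ?_)))
  exact c.2.symm

theorem coeff_mem [IsAffine G.U] [IsAffine G.R] {n m : ℕ}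
    (P : letI := G.s.appTop.hom.toAlgebra; Split Γ(G.U, ⊤) Γ(G.R, ⊤) n) (f : Fin m → Γ(G.U, ⊤)) (d : Fin m →₀ ℕ) :
    (letI := G.s.appTop.hom.toAlgebra
     (Fibres.gen fun j => mat P (G.t.appTop.hom (f j))).coeff d) ∈ G.invariants := by
  let σ := G.s.appTop
  let τ := G.t.appTop
  letI : Algebra Γ(G.U, ⊤) Γ(G.R, ⊤) := σ.hom.toAlgebra
  let R₂ := pullback G.s G.t
  letI : Algebra Γ(G.R, ⊤) Γ(R₂, ⊤) := (pullback.snd G.s G.t).appTop.hom.toAlgebra
  have h1 := (isPushout_appTop_of_isPullback (isPullback_c (G := G))).flip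
  have h2 := (isPushout_appTop_of_isPullback (IsPullback.of_hasPullback G.s G.t)).flip
  have hz : ∀ a, G.c.appTop.hom (τ.hom a) = (pullback.fst G.s G.t).appTop.hom (τ.hom a) := fun a => by
    have := G.comp_t (pullback.fst G.s G.t) (pullback.snd G.s G.t) pullback.condition
    rw [show pullback.lift (pullback.fst G.s G.t) (pullback.snd G.s G.t) pullback.condition = 𝟙 _ by
      apply pullback.hom_ext <;> simp [pullback.lift_fst, pullback.lift_snd], Category.id_comp] at this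
    exact congrArg (fun φ : R₂ ⟶ G.U => φ.appTop.hom a) this
  have main : ∀ (φ : Γ(G.U, ⊤) ⟶ Γ(G.R, ⊤)) (g : Γ(G.R, ⊤) ⟶ Γ(R₂, ⊤)),
      IsPushout φ σ (pullback.snd G.s G.t).appTop g →
      ∃ P' : Split Γ(G.R, ⊤) Γ(R₂, ⊤) n, ∀ b, mat P' (g.hom b) = (mat P b).map φ.hom := by
    intro φ g h
    letI a₁ : Algebra Γ(G.U, ⊤) Γ(R₂, ⊤) := ((pullback.snd G.s G.t).appTop.hom.comp φ.hom).toAlgebra
    exact @exists_baseChange Γ(G.U, ⊤) Γ(G.R, ⊤) _ _ σ.hom.toAlgebra Γ(G.R, ⊤) Γ(R₂, ⊤) _ _ φ.hom.toAlgebra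
      (pullback.snd G.s G.t).appTop.hom.toAlgebra g.hom.toAlgebra a₁
      (@IsScalarTower.of_algebraMap_eq' _ _ _ _ _ _ φ.hom.toAlgebra (pullback.snd G.s G.t).appTop.hom.toAlgebra a₁ rfl)
      (@IsScalarTower.of_algebraMap_eq' _ _ _ _ _ _ σ.hom.toAlgebra g.hom.toAlgebra a₁ (congrArg CommRingCat.Hom.hom h.w))
      (@CommRingCat.isPushout_iff_isPushout Γ(G.U, ⊤) Γ(G.R, ⊤) _ _ σ.hom.toAlgebra Γ(G.R, ⊤) Γ(R₂, ⊤) _ _
        φ.hom.toAlgebra g.hom.toAlgebra (pullback.snd G.s G.t).appTop.hom.toAlgebra a₁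
        (@IsScalarTower.of_algebraMap_eq' _ _ _ _ _ _ φ.hom.toAlgebra (pullback.snd G.s G.t).appTop.hom.toAlgebra a₁ rfl)
        (@IsScalarTower.of_algebraMap_eq' _ _ _ _ _ _ σ.hom.toAlgebra g.hom.toAlgebra a₁ (congrArg CommRingCat.Hom.hom h.w))
        |>.mp h) n P
  obtain ⟨P₁, e₁⟩ := main σ G.c.appTop h1
  obtain ⟨P₂, e₂⟩ := main τ (pullback.fst G.s G.t).appTop h2
  have h := Fibres.gen_eq P₁ P₂ (fun j => G.c.appTop.hom (τ.hom (f j)))
  simp only [e₁] at h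
  simp only [hz, e₂] at h
  rw [← Fibres.map_gen σ.hom, ← Fibres.map_gen τ.hom] at h
  have h' := congrArg (MvPolynomial.coeff d) h
  rw [MvPolynomial.coeff_map, MvPolynomial.coeff_map] at h'
  exact h'

theorem split_exists [IsAffine G.U] [IsFinite G.s] [Flat G.s] [LocallyOfFinitePresentation G.s] [IsAffine G.R] :
    letI := G.s.appTop.hom.toAlgebra; ∃ n, Nonempty (Split Γ(G.U, ⊤) Γ(G.R, ⊤) n) := by
  letI : Algebra Γ(G.U, ⊤) Γ(G.R, ⊤) := G.s.appTop.hom.toAlgebra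
  have hfin : Module.Finite Γ(G.U, ⊤) Γ(G.R, ⊤) := G.s.finite_appTop
  have hflat : Module.Flat Γ(G.U, ⊤) Γ(G.R, ⊤) := HasRingHomProperty.appTop @Flat G.s ‹_›
  have hfp : Algebra.FinitePresentation Γ(G.U, ⊤) Γ(G.R, ⊤) :=
    HasRingHomProperty.appTop @LocallyOfFinitePresentation G.s ‹_›
  have : Module.FinitePresentation Γ(G.U, ⊤) Γ(G.R, ⊤) := Module.FinitePresentation.of_finite_of_finitePresentation _ _
  have : Module.Projective Γ(G.U, ⊤) Γ(G.R, ⊤) := Module.Flat.projective_of_finitePresentation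
  obtain ⟨n, π, ι', hπ, -, hcomp⟩ := Module.Finite.exists_comp_eq_id_of_projective Γ(G.U, ⊤) Γ(G.R, ⊤)
  exact ⟨n, ⟨⟨ι', π, hcomp⟩⟩⟩

variable [IsAffine G.U] [IsAffine G.R] [IsFinite G.s] [Flat G.s] [LocallyOfFinitePresentation G.s]

theorem point_toQuot {K : Type u} [Field K] (x : Spec (CommRingCat.of K) ⟶ G.U) (φ : Γ(G.U, ⊤) ⟶ CommRingCat.of K)
    (hx : Spec.map φ = x ≫ G.U.isoSpec.hom) :
    x ≫ G.toQuot = Spec.map (CommRingCat.ofHom (φ.hom.comp G.invariants.subtype)) := by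
  rw [Grpd.GroupoidScheme.toQuot, ← Category.assoc, show x ≫ G.U.toSpecΓ = Spec.map φ from hx.symm, ← Spec.map_comp]
  rfl

theorem exists_lift {K : Type u} [Field K] [IsAlgClosed K] (m : Spec (CommRingCat.of K) ⟶ Spec (CommRingCat.of G.invariants)) :
    ∃ x : Spec (CommRingCat.of K) ⟶ G.U, x ≫ G.toQuot = m := by
  obtain ⟨φ, rfl⟩ := Spec.map_surjective m
  have hint := CharRev.isIntegral (G := G)
  let p := RingHom.ker φ.hom
  have hp : p.IsPrime := RingHom.ker_isPrime _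
  obtain ⟨q, -, hqp, hq⟩ := Ideal.exists_ideal_over_prime_of_isIntegral p (⊥ : Ideal Γ(G.U, ⊤)) (by
    intro c hc
    have : c = 0 := Subtype.ext (Ideal.mem_bot.1 hc)
    rw [this]; exact zero_mem _)
  letI : Algebra (G.invariants ⧸ p) K := (Ideal.Quotient.lift p φ.hom fun a ha => ha).toAlgebra
  have : q.LiesOver p := ⟨hq.symm⟩
  have hinj : Function.Injective (algebraMap (G.invariants ⧸ p) K) :=
    (injective_iff_map_eq_zero (Ideal.Quotient.lift p φ.hom fun a ha => ha)).2 fun a ha => by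
      obtain ⟨a, rfl⟩ := Ideal.Quotient.mk_surjective a
      exact Ideal.Quotient.eq_zero_iff_mem.2 ha
  have : Module.IsTorsionFree (G.invariants ⧸ p) K := Module.isTorsionFree_iff_algebraMap_injective.2 hinj
  have : Module.IsTorsionFree (G.invariants ⧸ p) (Γ(G.U, ⊤) ⧸ q) :=
    Module.isTorsionFree_iff_algebraMap_injective.2 (FaithfulSMul.algebraMap_injective _ _)
  have : Algebra.IsIntegral (G.invariants ⧸ p) (Γ(G.U, ⊤) ⧸ q) := inferInstance
  have : Algebra.IsAlgebraic (G.invariants ⧸ p) (Γ(G.U, ⊤) ⧸ q) := inferInstance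
  let ψ : (Γ(G.U, ⊤) ⧸ q) →ₐ[G.invariants ⧸ p] K := IsAlgClosed.lift
  let φ' : Γ(G.U, ⊤) ⟶ CommRingCat.of K := CommRingCat.ofHom (ψ.toRingHom.comp (Ideal.Quotient.mk q))
  refine ⟨Spec.map φ' ≫ G.U.isoSpec.inv, ?_⟩
  rw [point_toQuot _ φ' (by simp)]
  refine congrArg Spec.map (CommRingCat.hom_ext (RingHom.ext fun c => ?_))
  exact ψ.commutes (Ideal.Quotient.mk p c)

theorem exists_arrow {K : Type u} [Field K] [IsAlgClosed K] (x₀ x₁ : Spec (CommRingCat.of K) ⟶ G.U)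
    (h : x₀ ≫ G.toQuot = x₁ ≫ G.toQuot) : ∃ r : Spec (CommRingCat.of K) ⟶ G.R, r ≫ G.t = x₀ ∧ r ≫ G.s = x₁ := by
  obtain ⟨φ₀, hφ₀⟩ := Spec.map_surjective (x₀ ≫ G.U.isoSpec.hom)
  obtain ⟨φ₁, hφ₁⟩ := Spec.map_surjective (x₁ ≫ G.U.isoSpec.hom)
  rw [point_toQuot x₀ φ₀ hφ₀, point_toQuot x₁ φ₁ hφ₁, Spec.map_inj] at h
  letI : Algebra Γ(G.U, ⊤) Γ(G.R, ⊤) := G.s.appTop.hom.toAlgebra
  obtain ⟨n, ⟨P⟩⟩ := split_exists (G := G)
  obtain ⟨y, hy₁, hy₀⟩ := Fibres.exists_point P G.t.appTop.hom G.e.appTop.hom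
    (congrArg CommRingCat.Hom.hom (show G.s.appTop ≫ G.e.appTop = 𝟙 _ by rw [← Scheme.Hom.comp_appTop, G.e_s]; rfl))
    (congrArg CommRingCat.Hom.hom (show G.t.appTop ≫ G.e.appTop = 𝟙 _ by rw [← Scheme.Hom.comp_appTop, G.e_t]; rfl))
    φ₀.hom φ₁.hom (fun m f μ => by
      rw [MvPolynomial.eval₂_eq', MvPolynomial.eval₂_eq']
      refine Finset.sum_congr rfl fun d _ => congrArg (· * _) ?_
      exact RingHom.congr_fun (congrArg CommRingCat.Hom.hom h) ⟨_, coeff_mem P f d⟩)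
  let r := Spec.map (CommRingCat.ofHom y) ≫ G.R.isoSpec.inv
  refine ⟨r, ?_, ?_⟩
  · rw [← cancel_mono G.U.isoSpec.hom, ← hφ₀]
    simp only [r, Category.assoc, ← Scheme.isoSpec_hom_naturality, Iso.inv_hom_id_assoc, ← Spec.map_comp]
    exact congrArg Spec.map (CommRingCat.hom_ext hy₀)
  · rw [← cancel_mono G.U.isoSpec.hom, ← hφ₁]
    simp only [r, Category.assoc, ← Scheme.isoSpec_hom_naturality, Iso.inv_hom_id_assoc, ← Spec.map_comp]
    exact congrArg Spec.map (CommRingCat.hom_ext hy₁)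

theorem main : (Function.Surjective G.toQuot ∧ ∀ u₀ u₁ : G.U, G.toQuot u₀ = G.toQuot u₁ ↔ ∃ r : G.R, G.t r = u₀ ∧ G.s r = u₁) ∧
    ∀ (K : Type u) [Field K] [IsAlgClosed K],
      (∀ m : Spec (CommRingCat.of K) ⟶ Spec (CommRingCat.of G.invariants), ∃ x : Spec (CommRingCat.of K) ⟶ G.U, x ≫ G.toQuot = m) ∧
      ∀ x₀ x₁ : Spec (CommRingCat.of K) ⟶ G.U, x₀ ≫ G.toQuot = x₁ ≫ G.toQuot ↔
        ∃ r : Spec (CommRingCat.of K) ⟶ G.R, r ≫ G.t = x₀ ∧ r ≫ G.s = x₁ := by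
  refine ⟨⟨fun p => ?_, fun u₀ u₁ => ⟨fun h => ?_, ?_⟩⟩, fun K _ _ => ⟨exists_lift, fun x₀ x₁ => ⟨exists_arrow x₀ x₁, ?_⟩⟩⟩
  · let M := Spec (CommRingCat.of G.invariants)
    let K := AlgebraicClosure (M.residueField p)
    let j := Spec.map (CommRingCat.ofHom (algebraMap (M.residueField p) K)) ≫ M.fromSpecResidueField p
    obtain ⟨x, hx⟩ := exists_lift (G := G) j
    refine ⟨x (IsLocalRing.closedPoint K), ?_⟩
    rw [← Scheme.Hom.comp_apply, hx, Scheme.Hom.comp_apply, Scheme.fromSpecResidueField_apply]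
  · obtain ⟨z, hz₀, hz₁⟩ := Scheme.Pullback.exists_preimage_pullback u₀ u₁ h
    let κ := (pullback G.toQuot G.toQuot).residueField z
    let K := AlgebraicClosure κ
    let j := Spec.map (CommRingCat.ofHom (algebraMap κ K)) ≫ (pullback G.toQuot G.toQuot).fromSpecResidueField z
    obtain ⟨r, hr₀, hr₁⟩ := exists_arrow (j ≫ pullback.fst _ _) (j ≫ pullback.snd _ _)
      (by simp [j, pullback.condition])
    refine ⟨r (IsLocalRing.closedPoint K), ?_, ?_⟩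
    · rw [← Scheme.Hom.comp_apply, hr₀, Scheme.Hom.comp_apply, Scheme.Hom.comp_apply, Scheme.fromSpecResidueField_apply, hz₀]
    · rw [← Scheme.Hom.comp_apply, hr₁, Scheme.Hom.comp_apply, Scheme.Hom.comp_apply, Scheme.fromSpecResidueField_apply, hz₁]
  · rintro ⟨r, rfl, rfl⟩
    rw [← Scheme.Hom.comp_apply, ← Scheme.Hom.comp_apply, t_toQuot]
  · rintro ⟨r, rfl, rfl⟩
    rw [Category.assoc, Category.assoc, t_toQuot]

end Groth.Agent.Grpd6.QuotFibres

end
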