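import Groth.Agent.Grpd6.FlatQuotGlobal
import Groth.Agent.Grpd6.QuotFibres
import Groth.Agent.Grpd6.BasisQuot
import Mathlib.AlgebraicGeometry.ZariskisMainTheorem

/-!
The quotient by a finite flat equivalence relation of affine schemes.
-/

universe u

open CategoryTheory AlgebraicGeometry Limits TensorProduct

set_option linter.style.haveILetI false
set_option backward.isDefEq.respectTransparency.types false

noncomputable section

namespace Groth.Agent.Grpd6.FlatQuot

variable {S : Scheme.{u}} (G : Grpd.GroupoidScheme S)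

/-- functions on the arrows as an algebra over the invariants -/
abbrev algR : Algebra G.invariants Γ(G.R, ⊤) := (G.s.appTop.hom.comp G.invariants.subtype).toAlgebra

/-- functions on the composable arrows as an algebra over the invariants -/
abbrev algR₂ : Algebra G.invariants Γ(pullback G.s G.t, ⊤) :=
  ((pullback.snd G.s G.t).appTop.hom.comp (G.s.appTop.hom.comp G.invariants.subtype)).toAlgebra

attribute [local instance] algR algR₂

/-- the source map on functions -/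
def σ : Γ(G.U, ⊤) →ₐ[G.invariants] Γ(G.R, ⊤) :=
  { G.s.appTop.hom with commutes' := fun _ => rfl }

/-- the target map on functions -/
def τ : Γ(G.U, ⊤) →ₐ[G.invariants] Γ(G.R, ⊤) :=
  { G.t.appTop.hom with commutes' := fun d => d.2.symm }

theorem mono_compare [IsAffine G.U] [IsAffine G.R] [Mono G.j] :
    Mono (Spec.map (CommRingCat.ofHom (FlatQuotGlobal.compare (σ G) (τ G)).toRingHom)) := by
  refine ⟨fun {T} g h e => ?_⟩
  have key : ∀ (w : G.R ⟶ G.U)
      (incl : Γ(G.U, ⊤) ⟶ CommRingCat.of (Γ(G.U, ⊤) ⊗[G.invariants] Γ(G.U, ⊤))),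
      incl ≫ CommRingCat.ofHom (FlatQuotGlobal.compare (σ G) (τ G)).toRingHom = w.appTop →
      (g ≫ G.R.isoSpec.inv) ≫ w = (h ≫ G.R.isoSpec.inv) ≫ w := by
    intro w incl hw
    rw [← cancel_mono G.U.isoSpec.hom]
    simp only [Category.assoc, ← Scheme.isoSpec_hom_naturality, Iso.inv_hom_id_assoc, ← hw, Spec.map_comp,
      reassoc_of% e]
  have ht := key G.t (CommRingCat.ofHom (Algebra.TensorProduct.includeRight (R := G.invariants) (A := Γ(G.U, ⊤))
    (B := Γ(G.U, ⊤))).toRingHom) (by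
      ext a
      show FlatQuotGlobal.compare (σ G) (τ G) (1 ⊗ₜ a) = G.t.appTop.hom a
      simp [FlatQuotGlobal.compare]; rfl)
  have hs := key G.s (CommRingCat.ofHom (Algebra.TensorProduct.includeLeftRingHom (R := G.invariants) (A := Γ(G.U, ⊤))
    (B := Γ(G.U, ⊤)))) (by
      ext a
      show FlatQuotGlobal.compare (σ G) (τ G) (a ⊗ₜ 1) = G.s.appTop.hom a
      simp [FlatQuotGlobal.compare]; rfl)
  rw [← cancel_mono G.R.isoSpec.inv, ← cancel_mono G.j]
  apply pullback.hom_ext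
  · simpa [Grpd.GroupoidScheme.j, pullback.lift_fst] using ht
  · simpa [Grpd.GroupoidScheme.j, pullback.lift_snd] using hs

theorem exists_generators [IsAffine G.U] [IsAffine G.R] [Mono G.j] [IsFinite G.s] :
    ∃ (N : ℕ) (a : Fin N → Γ(G.U, ⊤)),
      letI := G.s.appTop.hom.toAlgebra
      Submodule.span Γ(G.U, ⊤) (Set.range (τ G ∘ a)) = ⊤ := by
  classical
  let Φ := CommRingCat.ofHom (FlatQuotGlobal.compare (σ G) (τ G)).toRingHom
  have hΦ : Φ.hom.Finite := by
    refine RingHom.Finite.of_comp_finite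
      (f := Algebra.TensorProduct.includeLeftRingHom (R := G.invariants) (A := Γ(G.U, ⊤)) (B := Γ(G.U, ⊤))) ?_
    convert G.s.finite_appTop using 1
    ext a
    show FlatQuotGlobal.compare (σ G) (τ G) (a ⊗ₜ 1) = _
    simp [FlatQuotGlobal.compare]; rfl
  haveI := mono_compare G
  haveI : IsFinite (Spec.map Φ) := (IsFinite.SpecMap_iff _).mpr hΦ
  haveI : IsClosedImmersion (Spec.map Φ) :=
    (IsClosedImmersion.iff_isProper_and_mono _).mpr ⟨inferInstance, mono_compare G⟩
  have hsurj : Function.Surjective Φ.hom := fun b => by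
    obtain ⟨y, hy⟩ := Scheme.Hom.app_surjective (Spec.map Φ) ⊤ (isAffineOpen_top _) ((Scheme.ΓSpecIso _).inv.hom b)
    refine ⟨(Scheme.ΓSpecIso _).hom.hom y, ?_⟩
    have := congrArg (fun f => f.hom y) (Scheme.ΓSpecIso_naturality Φ)
    simp only [CommRingCat.hom_comp, RingHom.comp_apply] at this
    rw [← this, show (Spec.map Φ).appTop.hom y = (Scheme.ΓSpecIso _).inv.hom b from hy]
    exact congrArg (fun f => f.hom b) (Scheme.ΓSpecIso _).inv_hom_id
  letI : Algebra Γ(G.U, ⊤) Γ(G.R, ⊤) := G.s.appTop.hom.toAlgebra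
  haveI : Module.Finite Γ(G.U, ⊤) Γ(G.R, ⊤) := G.s.finite_appTop
  have hspan : Submodule.span Γ(G.U, ⊤) (Set.range (τ G)) = ⊤ := by
    refine eq_top_iff.2 fun b _ => ?_
    obtain ⟨z, rfl⟩ := hsurj b
    induction z using TensorProduct.induction_on with
    | zero => rw [map_zero]; exact zero_mem _
    | add x y hx hy => rw [map_add]; exact add_mem (hx trivial) (hy trivial)
    | tmul x y =>
      have : Φ.hom (x ⊗ₜ y) = x • τ G y := by
        show FlatQuotGlobal.compare (σ G) (τ G) (x ⊗ₜ y) = _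
        simp [FlatQuotGlobal.compare, Algebra.smul_def]; rfl
      rw [this]
      exact Submodule.smul_mem _ _ (Submodule.subset_span ⟨y, rfl⟩)
  obtain ⟨t, ht, htop⟩ := Submodule.fg_span_iff_fg_span_finset_subset _ |>.1 (hspan ▸ Module.Finite.fg_top)
  have ht' : ∀ i : Fin t.card, ∃ a, τ G a = (t.equivFin.symm i : Γ(G.R, ⊤)) := fun i => ht (t.equivFin.symm i).2
  choose a ha using ht'
  refine ⟨t.card, a, eq_top_iff.2 ?_⟩
  rw [← hspan, htop]
  refine Submodule.span_mono fun x hx => ⟨t.equivFin ⟨x, hx⟩, ?_⟩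
  simp [ha]

variable [IsAffine G.U] [IsAffine G.R] [IsFinite G.s] [Flat G.s] [LocallyOfFinitePresentation G.s]

theorem rank_eq (q q' : Ideal Γ(G.U, ⊤)) [q.IsPrime] [q'.IsPrime]
    (h : q.comap (algebraMap G.invariants Γ(G.U, ⊤)) = q'.comap (algebraMap G.invariants Γ(G.U, ⊤))) :
    G.s.appTop.hom.finrank ⟨q, inferInstance⟩ = G.s.appTop.hom.finrank ⟨q', inferInstance⟩ := by
  let u₀ : G.U := G.U.isoSpec.inv ⟨q, inferInstance⟩
  let u₁ : G.U := G.U.isoSpec.inv ⟨q', inferInstance⟩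
  have hu : ∀ x, G.U.isoSpec.hom (G.U.isoSpec.inv x) = x := fun x => by
    rw [← Scheme.Hom.comp_apply, Iso.inv_hom_id]; rfl
  have e : G.toQuot u₀ = G.toQuot u₁ := by
    have hT : ∀ x, G.toQuot x = Spec.map (CommRingCat.ofHom G.invariants.subtype) (G.U.isoSpec.hom x) := fun x => rfl
    rw [hT, hT, hu, hu]
    exact PrimeSpectrum.ext h
  obtain ⟨r, hr₀, hr₁⟩ := (QuotFibres.main.1.2 u₀ u₁).1 e
  let x : PrimeSpectrum Γ(G.R, ⊤) := G.R.isoSpec.hom r
  have nat : ∀ (w : G.R ⟶ G.U) (u : G.U), w r = u → PrimeSpectrum.comap w.appTop.hom x = G.U.isoSpec.hom u := by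
    intro w u hw
    rw [← hw]
    show Spec.map w.appTop (G.R.isoSpec.hom r) = _
    rw [← Scheme.Hom.comp_apply, Scheme.isoSpec_hom_naturality, Scheme.Hom.comp_apply]
  have h₁ := CommRingCat.finrank_eq_of_isPushout (BasisQuot.square_c (G := G)).flip
    (HasRingHomProperty.appTop @Flat G.s ‹_›) G.s.finite_appTop x
  have h₂ := CommRingCat.finrank_eq_of_isPushout (BasisQuot.square_fst (G := G)).flip
    (HasRingHomProperty.appTop @Flat G.s ‹_›) G.s.finite_appTop x
  rw [nat G.s u₁ hr₁, hu] at h₁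
  rw [nat G.t u₀ hr₀, hu] at h₂
  exact h₂.symm.trans h₁

theorem hyp [Mono G.j] :
    ∃ (N : ℕ) (a : Fin N → Γ(G.U, ⊤)) (π c p : Γ(G.R, ⊤) →ₐ[G.invariants] Γ(pullback G.s G.t, ⊤))
      (ε : Γ(G.R, ⊤) →ₐ[G.invariants] Γ(G.U, ⊤)), FlatQuotGlobal.Hyp (σ G) (τ G) π c p ε a := by
  classical
  obtain ⟨N, a, ha⟩ := exists_generators G
  have hc : ∀ z, G.c.appTop.hom (G.s.appTop.hom z) = (pullback.snd G.s G.t).appTop.hom (G.s.appTop.hom z) := fun z =>
    (congrArg (fun f : Γ(G.U, ⊤) ⟶ Γ(pullback G.s G.t, ⊤) => f.hom z) (BasisQuot.square_c (G := G)).w).symm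
  have hp : ∀ z, (pullback.fst G.s G.t).appTop.hom (G.s.appTop.hom z) = (pullback.snd G.s G.t).appTop.hom (G.t.appTop.hom z) :=
    fun z => (congrArg (fun f : Γ(G.U, ⊤) ⟶ Γ(pullback G.s G.t, ⊤) => f.hom z) (BasisQuot.square_fst (G := G)).w).symm
  have hes : ∀ z, G.e.appTop.hom (G.s.appTop.hom z) = z := fun z =>
    congrArg (fun f : Γ(G.U, ⊤) ⟶ Γ(G.U, ⊤) => f.hom z) (BasisQuot.sect (G := G)).1
  have het : ∀ z, G.e.appTop.hom (G.t.appTop.hom z) = z := fun z =>
    congrArg (fun f : Γ(G.U, ⊤) ⟶ Γ(G.U, ⊤) => f.hom z) (BasisQuot.sect (G := G)).2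
  let π : Γ(G.R, ⊤) →ₐ[G.invariants] Γ(pullback G.s G.t, ⊤) :=
    { (pullback.snd G.s G.t).appTop.hom with commutes' := fun _ => rfl }
  let c : Γ(G.R, ⊤) →ₐ[G.invariants] Γ(pullback G.s G.t, ⊤) :=
    { G.c.appTop.hom with commutes' := fun d => hc d.1 }
  let p : Γ(G.R, ⊤) →ₐ[G.invariants] Γ(pullback G.s G.t, ⊤) :=
    { (pullback.fst G.s G.t).appTop.hom with
      commutes' := fun d => (hp d.1).trans (congrArg (pullback.snd G.s G.t).appTop.hom d.2.symm) }
  let ε : Γ(G.R, ⊤) →ₐ[G.invariants] Γ(G.U, ⊤) :=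
    { G.e.appTop.hom with commutes' := fun d => hes d.1 }
  refine ⟨N, a, π, c, p, ε, BasisQuot.square_c, BasisQuot.square_fst, ?_, hes, het, Subtype.val_injective,
    fun z hz => ⟨⟨z, hz⟩, rfl⟩, CharRev.isIntegral, G.s.finite_appTop, HasRingHomProperty.appTop @Flat G.s ‹_›,
    HasRingHomProperty.appTop @LocallyOfFinitePresentation G.s ‹_›, ha, ?_⟩
  · intro z
    exact congrArg (fun f : Γ(G.U, ⊤) ⟶ Γ(pullback G.s G.t, ⊤) => f.hom z) (BasisQuot.square_t (G := G))
  · intro P _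
    by_cases h : ∃ q : Ideal Γ(G.U, ⊤), ∃ _ : q.IsPrime, q.comap (algebraMap G.invariants Γ(G.U, ⊤)) = P
    · obtain ⟨q₀, _, hq₀⟩ := h
      exact ⟨_, fun q _ hq => rank_eq G q q₀ (hq.trans hq₀.symm)⟩
    · exact ⟨0, fun q hqp hq => (h ⟨q, hqp, hq⟩).elim⟩

theorem main [Mono G.j] :
    (IsFinite G.toQuot ∧ Flat G.toQuot ∧ LocallyOfFinitePresentation G.toQuot) ∧
      ∃ φ : G.R ≅ pullback G.toQuot G.toQuot,
        φ.hom ≫ pullback.fst G.toQuot G.toQuot = G.t ∧ φ.hom ≫ pullback.snd G.toQuot G.toQuot = G.s := by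
  obtain ⟨N, a, π, c, p, ε, H⟩ := hyp G
  let f := CommRingCat.ofHom G.invariants.subtype
  have hT : G.toQuot = G.U.isoSpec.hom ≫ Spec.map f := rfl
  refine ⟨⟨?_, ?_, ?_⟩, ?_⟩
  · haveI : IsFinite (Spec.map f) := (IsFinite.SpecMap_iff _).mpr (FlatQuotGlobal.finite H)
    rw [hT]; infer_instance
  · haveI : Flat (Spec.map f) := (HasRingHomProperty.Spec_iff (P := @Flat)).mpr (FlatQuotGlobal.flat H)
    rw [hT]; infer_instance
  · haveI : LocallyOfFinitePresentation (Spec.map f) :=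
      (HasRingHomProperty.Spec_iff (P := @LocallyOfFinitePresentation)).mpr (FlatQuotGlobal.finitePresentation H)
    rw [hT]; infer_instance
  · let Φ := RingEquiv.ofBijective (FlatQuotGlobal.compare (σ G) (τ G)).toRingHom (FlatQuotGlobal.compare_bijective H)
    have P : IsPushout f f G.t.appTop G.s.appTop := by
      refine IsPushout.flip ?_
      refine (CommRingCat.isPushout_tensorProduct G.invariants Γ(G.U, ⊤) Γ(G.U, ⊤)).of_iso (Iso.refl _) (Iso.refl _)
        (Iso.refl _) Φ.toCommRingCatIso (by simp [f]; rfl) (by simp [f]; rfl) ?_ ?_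
      · ext z
        show FlatQuotGlobal.compare (σ G) (τ G) (z ⊗ₜ 1) = G.s.appTop.hom z
        simp [FlatQuotGlobal.compare]; rfl
      · ext z
        show FlatQuotGlobal.compare (σ G) (τ G) (1 ⊗ₜ z) = G.t.appTop.hom z
        simp [FlatQuotGlobal.compare]; rfl
    have Q : IsPullback G.t G.s G.toQuot G.toQuot := by
      refine (isPullback_SpecMap_of_isPushout _ _ _ _ P).of_iso G.R.isoSpec.symm G.U.isoSpec.symm G.U.isoSpec.symm
        (Iso.refl _) ?_ ?_ ?_ ?_
      · simp [Scheme.isoSpec_inv_naturality]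
      · simp [Scheme.isoSpec_inv_naturality]
      · simp [hT]
      · simp [hT]
    exact ⟨Q.isoPullback, Q.isoPullback_hom_fst, Q.isoPullback_hom_snd⟩

end Groth.Agent.Grpd6.FlatQuot

end
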