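import Groth.Prelude.Def_Grpd
import Groth.Agent.Mor.OpenGen
import Mathlib.AlgebraicGeometry.Morphisms.Immersion
import Mathlib.AlgebraicGeometry.Morphisms.Separated
import Mathlib.AlgebraicGeometry.Morphisms.UniversallyOpen
import Mathlib.AlgebraicGeometry.PullbackCarrier
import Mathlib.AlgebraicGeometry.ResidueField

/-!
Composition calculus for groupoid schemes; translations and shears.
-/

universe u

open CategoryTheory AlgebraicGeometry Limits

set_option linter.style.haveILetI false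

set_option backward.isDefEq.respectTransparency.types false

noncomputable section

namespace Groth.Agent.Grpd6.Basic

attribute [local simp] pullback.lift_fst pullback.lift_snd pullback.lift_fst_assoc pullback.lift_snd_assoc
  pullback.diagonal_fst pullback.diagonal_snd

variable {S : Scheme.{u}} {G : Grpd.GroupoidScheme S}

@[simp] theorem i_s' {T : Scheme.{u}} (f : G.U ⟶ T) : G.i ≫ G.s ≫ f = G.t ≫ f := by rw [← Category.assoc, G.i_s]

@[simp] theorem i_t' {T : Scheme.{u}} (f : G.U ⟶ T) : G.i ≫ G.t ≫ f = G.s ≫ f := by rw [← Category.assoc, G.i_t]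

@[simp] theorem e_s' {T : Scheme.{u}} (f : G.U ⟶ T) : G.e ≫ G.s ≫ f = f := by rw [← Category.assoc, G.e_s, Category.id_comp]

@[simp] theorem e_t' {T : Scheme.{u}} (f : G.U ⟶ T) : G.e ≫ G.t ≫ f = f := by rw [← Category.assoc, G.e_t, Category.id_comp]

attribute [local simp] Grpd.GroupoidScheme.i_s Grpd.GroupoidScheme.i_t Grpd.GroupoidScheme.e_s Grpd.GroupoidScheme.e_t

variable (G) in
/-- composition of `T`-points -/
def comp {T : Scheme.{u}} (α β : T ⟶ G.R) (h : α ≫ G.s = β ≫ G.t) : T ⟶ G.R :=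
  pullback.lift α β h ≫ G.c

theorem comp_congr {T : Scheme.{u}} {α α' β β' : T ⟶ G.R} (h : α ≫ G.s = β ≫ G.t) (ha : α = α') (hb : β = β') :
    comp G α β h = comp G α' β' (by rw [← ha, ← hb]; exact h) := by
  subst ha hb; rfl

theorem comp_pre {T T' : Scheme.{u}} (f : T' ⟶ T) (α β : T ⟶ G.R) (h : α ≫ G.s = β ≫ G.t) :
    f ≫ comp G α β h = comp G (f ≫ α) (f ≫ β) (by rw [Category.assoc, Category.assoc, h]) := by
  unfold comp
  rw [← Category.assoc]
  congr 1
  apply pullback.hom_ext <;> simp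

@[simp] theorem comp_s' {T : Scheme.{u}} (α β : T ⟶ G.R) (h : α ≫ G.s = β ≫ G.t) : comp G α β h ≫ G.s = β ≫ G.s :=
  G.comp_s α β h

@[simp] theorem comp_t' {T : Scheme.{u}} (α β : T ⟶ G.R) (h : α ≫ G.s = β ≫ G.t) : comp G α β h ≫ G.t = α ≫ G.t :=
  G.comp_t α β h

@[simp] theorem comp_s'' {T X : Scheme.{u}} (α β : T ⟶ G.R) (h : α ≫ G.s = β ≫ G.t) (f : G.U ⟶ X) :
    comp G α β h ≫ G.s ≫ f = β ≫ G.s ≫ f := by rw [← Category.assoc, comp_s', Category.assoc]

@[simp] theorem comp_t'' {T X : Scheme.{u}} (α β : T ⟶ G.R) (h : α ≫ G.s = β ≫ G.t) (f : G.U ⟶ X) :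
    comp G α β h ≫ G.t ≫ f = α ≫ G.t ≫ f := by rw [← Category.assoc, comp_t', Category.assoc]

theorem inv_comp_cancel {T : Scheme.{u}} (α β : T ⟶ G.R) (h : α ≫ G.s = β ≫ G.t)
    (h' : (α ≫ G.i) ≫ G.s = comp G α β h ≫ G.t) : comp G (α ≫ G.i) (comp G α β h) h' = β := by
  have h1 : (α ≫ G.i) ≫ G.s = α ≫ G.t := by rw [Category.assoc, G.i_s]
  have := G.assoc (α ≫ G.i) α β h1 h
  refine this.symm.trans ?_
  have h2 : pullback.lift (α ≫ G.i) α h1 ≫ G.c = β ≫ G.t ≫ G.e := by
    rw [G.i_comp α, ← Category.assoc, h, Category.assoc]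
  exact (comp_congr _ h2 rfl).trans (G.e_comp β)

theorem comp_inv_cancel {T : Scheme.{u}} (α β : T ⟶ G.R) (h : α ≫ G.s = β ≫ G.t)
    (h' : comp G α β h ≫ G.s = (β ≫ G.i) ≫ G.t) : comp G (comp G α β h) (β ≫ G.i) h' = α := by
  have h1 : β ≫ G.s = (β ≫ G.i) ≫ G.t := by rw [Category.assoc, G.i_t]
  have := G.assoc α β (β ≫ G.i) h h1
  refine this.trans ?_
  have h2 : pullback.lift β (β ≫ G.i) h1 ≫ G.c = α ≫ G.s ≫ G.e := by
    rw [G.comp_i β, ← Category.assoc, ← h, Category.assoc]
  exact (comp_congr _ rfl h2).trans (G.comp_e α)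

theorem inv_inv {T : Scheme.{u}} (α : T ⟶ G.R) : (α ≫ G.i) ≫ G.i = α := by
  have h1 : ((α ≫ G.i) ≫ G.i) ≫ G.s = (α ≫ G.i) ≫ G.t := by rw [Category.assoc, G.i_s]
  have h2 : (α ≫ G.i) ≫ G.s = α ≫ G.t := by rw [Category.assoc, G.i_s]
  have h3 := inv_comp_cancel (α ≫ G.i) α h2
    (h1.trans (comp_t' _ _ h2).symm)
  have h4 : comp G (α ≫ G.i) α h2 = ((α ≫ G.i) ≫ G.i) ≫ G.s ≫ G.e := by
    unfold comp
    rw [G.i_comp α]
    simp only [Category.assoc, reassoc_of% G.i_s, reassoc_of% G.i_t]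
  exact ((comp_congr _ rfl h4).trans (G.comp_e _)).symm.trans h3

theorem cancel_inv {T : Scheme.{u}} (α β : T ⟶ G.R) (h : (α ≫ G.i) ≫ G.s = β ≫ G.t)
    (h' : α ≫ G.s = comp G (α ≫ G.i) β h ≫ G.t) : comp G α (comp G (α ≫ G.i) β h) h' = β :=
  (comp_congr _ (inv_inv α).symm rfl).trans (inv_comp_cancel (α ≫ G.i) β h (by rw [inv_inv]; exact h'))

theorem pt_iso {X : Scheme.{u}} {k : Type u} [Field k] (eU : X ≅ Spec (CommRingCat.of k)) (x : X) :
    IsIso (X.fromSpecResidueField x) := by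
  have hsub : Subsingleton X := eU.hom.homeomorph.injective.subsingleton (β := PrimeSpectrum k)
  have : IsReduced X := isReduced_of_isOpenImmersion eU.hom
  have hcl : IsClosed (Set.range (X.fromSpecResidueField x)) := by
    rw [Scheme.range_fromSpecResidueField]
    exact (Set.subsingleton_of_subsingleton : ({x} : Set X).Subsingleton).isClosed
  have : IsClosedImmersion (X.fromSpecResidueField x) := .of_isPreimmersion _ hcl
  have : Surjective (X.fromSpecResidueField x) := ⟨fun y => ⟨default, Subsingleton.elim _ _⟩⟩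
  exact isIso_of_isClosedImmersion_of_surjective _

theorem universallyOpen_of_field {X U : Scheme.{u}} {k : Type u} [Field k] (eU : U ≅ Spec (CommRingCat.of k))
    (f : X ⟶ U) : UniversallyOpen f :=
  haveI : Subsingleton U := eU.hom.homeomorph.injective.subsingleton (β := PrimeSpectrum k)
  Mor.OpenGen.universallyOpen_of_subsingleton f

variable (G) in
/-- `(z, w) ↦ (z, a z ∘ w)` -/
def shearHom {Z : Scheme.{u}} (a : Z ⟶ G.R) : pullback (a ≫ G.s) G.t ⟶ pullback (a ≫ G.t) G.t :=
  pullback.lift (pullback.fst (a ≫ G.s) G.t)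
    (comp G (pullback.fst (a ≫ G.s) G.t ≫ a) (pullback.snd (a ≫ G.s) G.t)
      (by rw [Category.assoc]; exact pullback.condition))
    (by simp)

variable (G) in
/-- `(z, w) ↦ (z, (a z)⁻¹ ∘ w)` -/
def shearInv {Z : Scheme.{u}} (a : Z ⟶ G.R) : pullback (a ≫ G.t) G.t ⟶ pullback (a ≫ G.s) G.t :=
  pullback.lift (pullback.fst (a ≫ G.t) G.t)
    (comp G ((pullback.fst (a ≫ G.t) G.t ≫ a) ≫ G.i) (pullback.snd (a ≫ G.t) G.t)
      (by rw [Category.assoc, Category.assoc, G.i_s]; exact pullback.condition))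
    (by simp)

theorem shear_hom_inv {Z : Scheme.{u}} (a : Z ⟶ G.R) : shearHom G a ≫ shearInv G a = 𝟙 _ := by
  apply pullback.hom_ext
  · simp [shearHom, shearInv]
  · rw [Category.assoc, shearInv, pullback.lift_snd, comp_pre, Category.id_comp]
    refine Eq.trans (comp_congr _ ?_ ?_) (inv_comp_cancel (pullback.fst (a ≫ G.s) G.t ≫ a)
      (pullback.snd (a ≫ G.s) G.t) (by rw [Category.assoc]; exact pullback.condition) (by simp))
    · simp [shearHom]
    · simp [shearHom]

theorem shear_inv_hom {Z : Scheme.{u}} (a : Z ⟶ G.R) : shearInv G a ≫ shearHom G a = 𝟙 _ := by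
  apply pullback.hom_ext
  · simp [shearHom, shearInv]
  · rw [Category.assoc, shearHom, pullback.lift_snd, comp_pre, Category.id_comp]
    have h0 : ((pullback.fst (a ≫ G.t) G.t ≫ a) ≫ G.i) ≫ G.s = pullback.snd (a ≫ G.t) G.t ≫ G.t := by
      rw [Category.assoc, Category.assoc, G.i_s]; exact pullback.condition
    refine Eq.trans (comp_congr _ ?_ ?_) (cancel_inv (pullback.fst (a ≫ G.t) G.t ≫ a)
      (pullback.snd (a ≫ G.t) G.t) h0 (by simp))
    · simp [shearInv]
    · simp [shearInv]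

variable (G) in
/-- the shear isomorphism -/
def shear {Z : Scheme.{u}} (a : Z ⟶ G.R) : pullback (a ≫ G.s) G.t ≅ pullback (a ≫ G.t) G.t :=
  ⟨shearHom G a, shearInv G a, shear_hom_inv a, shear_inv_hom a⟩

theorem isOpen_range_translate {k : Type u} [Field k] (eU : G.U ≅ Spec (CommRingCat.of k)) (W : G.R.Opens)
    {Z : Scheme.{u}} (a : Z ⟶ G.R) :
    IsOpen (Set.range ⇑(pullback.lift (pullback.fst (a ≫ G.s) (W.ι ≫ G.t) ≫ a)
      (pullback.snd (a ≫ G.s) (W.ι ≫ G.t) ≫ W.ι)
      ((Category.assoc _ _ _).trans (pullback.condition.trans (Category.assoc _ _ _).symm)) ≫ G.c)) := by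
  let m : pullback (a ≫ G.s) (W.ι ≫ G.t) ⟶ pullback (a ≫ G.s) G.t :=
    pullback.map _ _ _ _ (𝟙 _) W.ι (𝟙 _) (by simp) (by simp)
  let q := m ≫ (shear G a).hom
  have : IsOpenImmersion q := inferInstance
  have hq : q ≫ pullback.snd (a ≫ G.t) G.t = pullback.lift (pullback.fst (a ≫ G.s) (W.ι ≫ G.t) ≫ a)
      (pullback.snd (a ≫ G.s) (W.ι ≫ G.t) ≫ W.ι)
      ((Category.assoc _ _ _).trans (pullback.condition.trans (Category.assoc _ _ _).symm)) ≫ G.c := by
    simp only [q, m, shear, shearHom, Category.assoc, pullback.lift_snd, comp_pre]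
    exact comp_congr _ (by simp) (by simp)
  rw [← hq]
  have := universallyOpen_of_field eU (a ≫ G.t)
  have : UniversallyOpen (pullback.snd (a ≫ G.t) G.t) := inferInstance
  have : UniversallyOpen (q ≫ pullback.snd (a ≫ G.t) G.t) := inferInstance
  exact (q ≫ pullback.snd (a ≫ G.t) G.t).isOpenMap.isOpen_range

theorem isOpenMap_c {k : Type u} [Field k] (eU : G.U ≅ Spec (CommRingCat.of k)) : IsOpenMap ⇑G.c := by
  have h : G.c = (pullback.congrHom (Category.id_comp G.s).symm rfl).hom ≫ (shear G (𝟙 G.R)).hom ≫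
      pullback.snd _ _ := by
    simp only [shear, shearHom, pullback.lift_snd, comp_pre]
    refine ((Category.id_comp G.c).symm.trans ?_)
    rw [show 𝟙 (pullback G.s G.t) = pullback.lift (pullback.fst G.s G.t) (pullback.snd G.s G.t) pullback.condition by
      apply pullback.hom_ext <;> simp]
    exact comp_congr (G := G) pullback.condition (by simp) (by simp)
  rw [h]
  have := universallyOpen_of_field eU (𝟙 G.R ≫ G.t)
  have : UniversallyOpen (pullback.snd (𝟙 G.R ≫ G.t) G.t) := inferInstance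
  exact (((pullback.congrHom (Category.id_comp G.s).symm rfl).hom ≫ (shear G (𝟙 G.R)).hom ≫
      pullback.snd (𝟙 G.R ≫ G.t) G.t)).isOpenMap

theorem isClosedImmersion_of_section {X : Scheme.{u}} {k : Type u} [Field k] {U : Scheme.{u}}
    (eU : U ≅ Spec (CommRingCat.of k)) (f : X ⟶ U) (σ : U ⟶ X) (h : σ ≫ f = 𝟙 U) : IsClosedImmersion σ := by
  have : IsIso (σ ≫ f) := by rw [h]; infer_instance
  have : IsImmersion σ := IsImmersion.of_comp σ f
  have hsub : Subsingleton U := eU.hom.homeomorph.injective.subsingleton (β := PrimeSpectrum k)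
  obtain ⟨u₀⟩ : Nonempty U := ⟨eU.inv (IsLocalRing.closedPoint k)⟩
  refine .of_isPreimmersion σ ?_
  rw [show Set.range σ = {σ u₀} from Set.eq_singleton_iff_unique_mem.2 ⟨⟨u₀, rfl⟩, by
    rintro _ ⟨u, rfl⟩; rw [Subsingleton.elim u u₀]⟩]
  refine closure_subset_iff_isClosed.1 fun y hy => ?_
  obtain ⟨_, ⟨V₀, hV, rfl⟩, hyV, -⟩ := X.isBasis_affineOpens.exists_subset_of_mem_open (Set.mem_univ y) isOpen_univ
  let V : X.Opens := V₀
  have hxV : σ u₀ ∈ V := (specializes_iff_mem_closure.2 hy).mem_open V.2 hyV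
  have hVa : IsAffine V := hV
  let σ' : U ⟶ V := IsOpenImmersion.lift V.ι σ (by
    rw [Scheme.Opens.range_ι]
    rintro _ ⟨u, rfl⟩
    rwa [Subsingleton.elim u u₀])
  have hσ' : σ' ≫ V.ι ≫ f = 𝟙 U := by rw [IsOpenImmersion.lift_fac_assoc, h]
  have : IsAffine U := IsAffine.of_isIso eU.hom
  have : IsSeparated (V.ι ≫ f) := inferInstance
  have : IsClosedImmersion σ' := by
    have : IsClosedImmersion (σ' ≫ V.ι ≫ f) := by rw [hσ']; infer_instance
    exact IsClosedImmersion.of_comp σ' (V.ι ≫ f)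
  have hc := σ'.isClosedEmbedding.isClosed_range
  rw [Set.mem_singleton_iff]
  have hy' : (⟨y, hyV⟩ : V) ∈ closure (Set.range σ') := by
    rw [V.ι.isOpenEmbedding.isInducing.closure_eq_preimage_closure_image]
    refine closure_mono ?_ hy
    rintro _ rfl
    exact ⟨σ' u₀, ⟨u₀, rfl⟩, (congrArg (fun g : U ⟶ X => g u₀) (IsOpenImmersion.lift_fac V.ι σ _) : _)⟩
  rw [hc.closure_eq] at hy'
  obtain ⟨u, hu⟩ := hy'
  have h1 := congrArg (fun g : U ⟶ X => g u) (IsOpenImmersion.lift_fac V.ι σ (by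
    rw [Scheme.Opens.range_ι]; rintro _ ⟨u, rfl⟩; rwa [Subsingleton.elim u u₀]))
  rw [Subsingleton.elim u₀ u]
  exact (congrArg V.ι hu).symm.trans h1

theorem isSeparated_t {k : Type u} [Field k] (eU : G.U ≅ Spec (CommRingCat.of k)) : IsSeparated G.t := by
  have := isClosedImmersion_of_section eU G.s G.e G.e_s
  let d : pullback G.t G.t ⟶ G.R := comp G (pullback.fst G.t G.t ≫ G.i) (pullback.snd G.t G.t)
    (by rw [Category.assoc, G.i_s]; exact pullback.condition)
  have hsq : IsPullback (pullback.diagonal G.t) G.s d G.e := by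
    refine ⟨⟨?_⟩, ⟨PullbackCone.IsLimit.mk _ (fun c => c.fst ≫ pullback.fst _ _) (fun c => ?_) (fun c => ?_)
      (fun c m hm _ => by rw [← hm, Category.assoc, pullback.diagonal_fst, Category.comp_id])⟩⟩
    · simp only [d, comp_pre]
      exact (comp_congr _ (by simp) (by simp)).trans (G.i_comp (𝟙 _) |>.trans (by simp))
    all_goals
      have hc := c.condition
      simp only [d, comp_pre] at hc
      have hb : c.fst ≫ pullback.snd G.t G.t = c.fst ≫ pullback.fst G.t G.t := by
        have h1 := cancel_inv (c.fst ≫ pullback.fst G.t G.t) (c.fst ≫ pullback.snd G.t G.t)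
          (by simp only [Category.assoc, G.i_s]; rw [pullback.condition])
          (by rw [comp_t']; simp only [Category.assoc, G.i_t])
        refine h1.symm.trans ?_
        have h2 : comp G ((c.fst ≫ pullback.fst G.t G.t) ≫ G.i) (c.fst ≫ pullback.snd G.t G.t)
            (by simp only [Category.assoc, G.i_s]; rw [pullback.condition]) =
            (c.fst ≫ pullback.fst G.t G.t) ≫ G.s ≫ G.e := by
          have h3 : comp G ((c.fst ≫ pullback.fst G.t G.t) ≫ G.i) (c.fst ≫ pullback.snd G.t G.t)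
              (by simp only [Category.assoc, G.i_s]; rw [pullback.condition]) = c.snd ≫ G.e :=
            (comp_congr _ (Category.assoc _ _ _) rfl).trans hc
          have h4 := congrArg (· ≫ G.t) h3
          simp only [comp_t', Category.assoc, G.i_t, G.e_t, Category.comp_id] at h4
          rw [h3, ← h4]
          simp only [Category.assoc]
        exact (comp_congr _ rfl h2).trans (G.comp_e _)
    · apply pullback.hom_ext
      · simp
      · rw [Category.assoc, pullback.diagonal_snd, Category.comp_id]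
        exact hb.symm
    · have h4 := congrArg (· ≫ G.t) hc
      simp only [comp_t', Category.assoc, G.i_t, G.e_t, Category.comp_id] at h4
      exact h4
  exact ⟨MorphismProperty.of_isPullback (P := @IsClosedImmersion) hsq.flip inferInstance⟩

theorem isSeparated_R {k : Type u} [Field k] (eU : G.U ≅ Spec (CommRingCat.of k)) : G.R.IsSeparated := by
  have := isSeparated_t (G := G) eU
  have : IsAffine G.U := IsAffine.of_isIso eU.hom
  rw [Scheme.isSeparated_iff, ← terminal.comp_from G.t]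
  infer_instance

theorem isIso_shear (φ : pullback G.t G.t ⟶ pullback G.s G.t)
    (h₁ : φ ≫ pullback.fst G.s G.t = pullback.fst G.t G.t)
    (h₂ : φ ≫ pullback.snd G.s G.t = pullback.lift (pullback.fst G.t G.t ≫ G.i) (pullback.snd G.t G.t)
      ((Category.assoc _ _ _).trans ((congrArg (fun x => pullback.fst G.t G.t ≫ x) G.i_s).trans pullback.condition)) ≫ G.c) :
    IsIso φ ∧ φ ≫ G.c = pullback.snd G.t G.t := by
  let ψ : pullback G.s G.t ⟶ pullback G.t G.t := pullback.lift (pullback.fst G.s G.t)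
    (comp G (pullback.fst G.s G.t) (pullback.snd G.s G.t) pullback.condition) (comp_t' _ _ _).symm
  have hc : G.c = comp G (pullback.fst G.s G.t) (pullback.snd G.s G.t) pullback.condition := by
    rw [comp, show pullback.lift (pullback.fst G.s G.t) (pullback.snd G.s G.t) pullback.condition = 𝟙 _ by
      apply pullback.hom_ext <;> simp, Category.id_comp]
  have hφc : φ ≫ G.c = pullback.snd G.t G.t := by
    rw [hc, comp_pre]
    exact (comp_congr _ h₁ h₂).trans (cancel_inv _ _ _ (by simp))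
  refine ⟨⟨ψ, ?_, ?_⟩, hφc⟩
  · apply pullback.hom_ext
    · simp [ψ, h₁]
    · rw [Category.assoc, pullback.lift_snd, ← hc, hφc, Category.id_comp]
  · apply pullback.hom_ext
    · simp [ψ, h₁]
    · rw [Category.assoc, h₂, Category.id_comp]
      show ψ ≫ comp G _ _ _ = _
      rw [comp_pre]
      refine (comp_congr _ (by simp [ψ]) (pullback.lift_snd _ _ _)).trans
        (inv_comp_cancel _ _ pullback.condition (by rw [comp_t', Category.assoc, G.i_s]))

theorem isPullback_c : IsPullback G.c (pullback.snd G.s G.t) G.s G.s := by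
  have hc : G.c = comp G (pullback.fst G.s G.t) (pullback.snd G.s G.t) pullback.condition := by
    rw [comp, show pullback.lift (pullback.fst G.s G.t) (pullback.snd G.s G.t) pullback.condition = 𝟙 _ by
      apply pullback.hom_ext <;> simp, Category.id_comp]
  rw [hc]
  refine ⟨⟨by rw [comp_s']⟩, ⟨PullbackCone.IsLimit.mk _
    (fun c => pullback.lift (comp G c.fst (c.snd ≫ G.i) (by simp [c.condition])) c.snd
      (by simp)) (fun c => ?_) (fun c => pullback.lift_snd _ _ _)
    (fun c m hm₁ hm₂ => ?_)⟩⟩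
  · rw [comp_pre]
    refine (comp_congr _ (pullback.lift_fst _ _ _) ((pullback.lift_snd _ _ _).trans (inv_inv c.snd).symm)).trans ?_
    exact comp_inv_cancel c.fst (c.snd ≫ G.i) (by simp [c.condition])
      (by simp)
  · apply pullback.hom_ext
    · rw [pullback.lift_fst]
      rw [comp_pre] at hm₁
      refine (comp_inv_cancel (m ≫ pullback.fst _ _) (m ≫ pullback.snd _ _)
        (by rw [Category.assoc, Category.assoc, pullback.condition])
        (by simp)).symm.trans ?_
      exact comp_congr _ hm₁ (by rw [hm₂])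
    · rw [pullback.lift_snd]; exact hm₂

theorem exists_auto {k : Type u} [Field k] (eU : G.U ≅ Spec (CommRingCat.of k)) (r : G.R)
    (hs : IsIso (G.s.residueFieldMap r)) (ht : IsIso (G.t.residueFieldMap r)) :
    ∃ φ : G.R ≅ G.R, φ.hom (G.e (eU.inv (IsLocalRing.closedPoint k))) = r := by
  let p := G.R.fromSpecResidueField r
  have hps : IsIso (p ≫ G.s) := by
    rw [← Scheme.Hom.SpecMap_residueFieldMap_fromSpecResidueField]
    have := pt_iso eU (G.s r)
    infer_instance
  have hpt : IsIso (p ≫ G.t) := by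
    rw [← Scheme.Hom.SpecMap_residueFieldMap_fromSpecResidueField]
    have := pt_iso eU (G.t r)
    infer_instance
  let a := inv (p ≫ G.s) ≫ p
  have has : a ≫ G.s = 𝟙 _ := by rw [Category.assoc, IsIso.inv_hom_id]
  have : IsIso (a ≫ G.t) := by rw [Category.assoc]; infer_instance
  let τ := a ≫ G.t
  have h1 : (G.t ≫ a) ≫ G.s = (𝟙 G.R) ≫ G.t := by
    rw [Category.assoc, has, Category.comp_id, Category.id_comp]
  have h2 : (G.t ≫ inv τ ≫ a ≫ G.i) ≫ G.s = (𝟙 G.R) ≫ G.t := by
    simp only [Category.assoc, G.i_s, Category.id_comp]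
    rw [show inv τ ≫ a ≫ G.t = 𝟙 _ from IsIso.inv_hom_id τ, Category.comp_id]
  refine ⟨⟨comp G (G.t ≫ a) (𝟙 _) h1, comp G (G.t ≫ inv τ ≫ a ≫ G.i) (𝟙 _) h2, ?_, ?_⟩, ?_⟩
  · rw [comp_pre]
    have e1 : comp G (G.t ≫ a) (𝟙 _) h1 ≫ G.t ≫ inv τ ≫ a ≫ G.i = (G.t ≫ a) ≫ G.i := by
      rw [← Category.assoc, comp_t']
      simp only [Category.assoc]
      rw [← Category.assoc a G.t, show a ≫ G.t = τ from rfl, IsIso.hom_inv_id_assoc]
    exact (comp_congr _ e1 (Category.comp_id _)).trans (inv_comp_cancel _ _ _ (by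
      rw [comp_t', Category.assoc _ G.i, G.i_s]))
  · rw [comp_pre]
    have e1 : comp G (G.t ≫ inv τ ≫ a ≫ G.i) (𝟙 _) h2 ≫ G.t ≫ a = G.t ≫ inv τ ≫ a := by
      rw [← Category.assoc, comp_t']
      simp only [Category.assoc, reassoc_of% G.i_t, reassoc_of% has]
    have e2 : G.t ≫ inv τ ≫ a ≫ G.i = (G.t ≫ inv τ ≫ a) ≫ G.i := by simp
    refine (comp_congr _ e1 (Category.comp_id _)).trans ?_
    refine (comp_congr _ rfl (comp_congr h2 e2 rfl)).trans ?_
    exact cancel_inv _ _ _ (by simp)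
  · have e : G.e ≫ comp G (G.t ≫ a) (𝟙 _) h1 = a := by
      rw [comp_pre]
      have e2 : G.e ≫ 𝟙 G.R = a ≫ G.s ≫ G.e := by rw [reassoc_of% has, Category.comp_id]
      exact (comp_congr _ (by rw [← Category.assoc, G.e_t, Category.id_comp]) e2).trans (G.comp_e a)
    show (G.e ≫ comp G (G.t ≫ a) (𝟙 _) h1) (eU.inv (IsLocalRing.closedPoint k)) = r
    rw [e]
    exact Scheme.fromSpecResidueField_apply r _

variable (G) in
/-- right translation between fibres of `s` -/
def fibreHom {T : Scheme.{u}} (g : T ⟶ G.R) (a b : T ⟶ G.U) (ha : g ≫ G.t = a) (hb : g ≫ G.s = b) :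
    pullback G.s a ⟶ pullback G.s b :=
  pullback.lift (comp G (pullback.fst G.s a) (pullback.snd G.s a ≫ g)
    (by rw [Category.assoc, ha]; exact pullback.condition)) (pullback.snd _ _) (by simp [hb])

theorem fibreHom_comp {T : Scheme.{u}} (g : T ⟶ G.R) (a b : T ⟶ G.U) (ha : g ≫ G.t = a) (hb : g ≫ G.s = b) :
    fibreHom G g a b ha hb ≫ fibreHom G (g ≫ G.i) b a (by simp [hb]) (by simp [ha]) = 𝟙 _ := by
  apply pullback.hom_ext
  · unfold fibreHom
    rw [Category.assoc, pullback.lift_fst, comp_pre, Category.id_comp]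
    refine Eq.trans (comp_congr _ ?_ ?_) (comp_inv_cancel (pullback.fst G.s a) (pullback.snd G.s a ≫ g)
      (by rw [Category.assoc, ha]; exact pullback.condition) (by simp [hb]))
    · simp
    · simp
  · simp [fibreHom]

variable (G) in
/-- right translation between fibres of `s`, as an isomorphism -/
def fibreIso {T : Scheme.{u}} (g : T ⟶ G.R) (a b : T ⟶ G.U) (ha : g ≫ G.t = a) (hb : g ≫ G.s = b) :
    pullback G.s a ≅ pullback G.s b where
  hom := fibreHom G g a b ha hb
  inv := fibreHom G (g ≫ G.i) b a (by simp [hb]) (by simp [ha])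
  hom_inv_id := fibreHom_comp g a b ha hb
  inv_hom_id := by
    have h := fibreHom_comp (G := G) (g ≫ G.i) b a (by simp [hb]) (by simp [ha])
    convert h using 3
    exact (inv_inv g).symm

theorem exists_fibre_iso (r r' : G.R) (h : G.t r = G.t r') :
    ∃ (k : Type u) (_ : Field k) (a b : Spec (CommRingCat.of k) ⟶ G.U) (φ : pullback G.s a ≅ pullback G.s b)
      (p : ↑(pullback G.s a)), a (IsLocalRing.closedPoint k) = G.s r ∧ b (IsLocalRing.closedPoint k) = G.s r' ∧
      φ.hom ≫ pullback.snd G.s b = pullback.snd G.s a ∧ pullback.fst G.s a p = r ∧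
      pullback.fst G.s b (φ.hom p) = r' := by
  obtain ⟨z, hz₁, hz₂⟩ := Scheme.Pullback.exists_preimage_pullback r r' h
  let k : Type u := (pullback G.t G.t).residueField z
  let pt : Spec (CommRingCat.of k) ⟶ pullback G.t G.t := (pullback G.t G.t).fromSpecResidueField z
  let A := pt ≫ pullback.fst G.t G.t
  let A' := pt ≫ pullback.snd G.t G.t
  have hg : (A ≫ G.i) ≫ G.s = A' ≫ G.t := by
    simp only [A, A', Category.assoc, G.i_s]; rw [pullback.condition]
  have hA : ∀ c, A c = r := fun c => (congrArg (pullback.fst G.t G.t) (Scheme.fromSpecResidueField_apply z c)).trans hz₁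
  have hA' : ∀ c, A' c = r' := fun c =>
    (congrArg (pullback.snd G.t G.t) (Scheme.fromSpecResidueField_apply z c)).trans hz₂
  have hgt : comp G (A ≫ G.i) A' hg ≫ G.t = A ≫ G.s := by simp
  have hgs : comp G (A ≫ G.i) A' hg ≫ G.s = A' ≫ G.s := comp_s' _ _ _
  let l : Spec (CommRingCat.of k) ⟶ pullback G.s (A ≫ G.s) := pullback.lift A (𝟙 _) (Category.id_comp _).symm
  refine ⟨k, inferInstance, A ≫ G.s, A' ≫ G.s, fibreIso G _ _ _ hgt hgs, l (IsLocalRing.closedPoint k),
    congrArg G.s (hA _), congrArg G.s (hA' _), pullback.lift_snd _ _ _, ?_, ?_⟩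
  · exact (congrArg (fun f : Spec (CommRingCat.of k) ⟶ G.R => f (IsLocalRing.closedPoint k))
      (pullback.lift_fst A (𝟙 _) (Category.id_comp _).symm)).trans (hA _)
  · have e : l ≫ fibreHom G (comp G (A ≫ G.i) A' hg) _ _ hgt hgs ≫ pullback.fst _ _ = A' := by
      unfold fibreHom
      rw [pullback.lift_fst, comp_pre]
      refine Eq.trans (comp_congr _ ?_ ?_) (cancel_inv A A' hg (by simp))
      · simp [l]
      · simp [l]
    exact (congrArg (fun f : Spec (CommRingCat.of k) ⟶ G.R => f (IsLocalRing.closedPoint k)) e).trans (hA' _)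

theorem pseudoTorsor (α : pullback G.stabilizerToU G.t ⟶ pullback G.s G.t)
    (hα₁ : α ≫ pullback.fst G.s G.t = pullback.fst G.stabilizerToU G.t ≫ pullback.fst G.j G.diag)
    (hα₂ : α ≫ pullback.snd G.s G.t = pullback.snd G.stabilizerToU G.t)
    (β : pullback G.stabilizerToU G.t ⟶ pullback G.j G.j)
    (hβ₁ : β ≫ pullback.fst G.j G.j = α ≫ G.c)
    (hβ₂ : β ≫ pullback.snd G.j G.j = pullback.snd G.stabilizerToU G.t) : IsIso β := by
  let p := pullback.fst G.j G.j
  let q := pullback.snd G.j G.j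
  have hst : p ≫ G.s = q ≫ G.s ∧ p ≫ G.t = q ≫ G.t := by
    have h := pullback.condition (f := G.j) (g := G.j)
    exact ⟨by simpa [Grpd.GroupoidScheme.j, p, q] using congrArg (· ≫ pullback.snd G.pU G.pU) h,
      by simpa [Grpd.GroupoidScheme.j, p, q] using congrArg (· ≫ pullback.fst G.pU G.pU) h⟩
  have hpq : p ≫ G.s = (q ≫ G.i) ≫ G.t := by rw [hst.1, Category.assoc, G.i_t]
  let g := comp G p (q ≫ G.i) hpq
  have hgt : g ≫ G.t = q ≫ G.t := by rw [comp_t', hst.2]
  have hgs : g ≫ G.s = q ≫ G.t := by rw [comp_s', Category.assoc, G.i_s]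
  let g' : pullback G.j G.j ⟶ G.stabilizer := pullback.lift g (q ≫ G.t) (by
    apply pullback.hom_ext <;> simp [Grpd.GroupoidScheme.j, Grpd.GroupoidScheme.diag]
    exacts [hgt, hgs])
  have hg'u : g' ≫ G.stabilizerToU = q ≫ G.t := pullback.lift_snd _ _ _
  let γ : pullback G.j G.j ⟶ pullback G.stabilizerToU G.t := pullback.lift g' q hg'u
  have hαc : α ≫ G.c = comp G (pullback.fst G.stabilizerToU G.t ≫ pullback.fst G.j G.diag)
      (pullback.snd G.stabilizerToU G.t) (by rw [← hα₁, ← hα₂, Category.assoc, Category.assoc, pullback.condition]) := by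
    have : α = pullback.lift (pullback.fst G.stabilizerToU G.t ≫ pullback.fst G.j G.diag)
      (pullback.snd G.stabilizerToU G.t) (by rw [← hα₁, ← hα₂, Category.assoc, Category.assoc, pullback.condition]) := by
      apply pullback.hom_ext <;> simp [hα₁, hα₂]
    conv_lhs => rw [this]
    rfl
  refine ⟨γ, ?_, ?_⟩
  · apply pullback.hom_ext
    · rw [Category.assoc, pullback.lift_fst, Category.id_comp]
      apply pullback.hom_ext
      · refine (Category.assoc _ _ _).trans ?_
        rw [pullback.lift_fst]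
        show β ≫ comp G _ _ _ = _
        rw [comp_pre]
        refine (comp_congr _ (hβ₁.trans hαc) (show β ≫ q ≫ G.i = pullback.snd G.stabilizerToU G.t ≫ G.i by
          rw [← Category.assoc, hβ₂])).trans ?_
        exact comp_inv_cancel _ _ _ (by simp)
      · refine (Category.assoc _ _ _).trans ?_
        rw [pullback.lift_snd, ← Category.assoc, hβ₂]
        exact pullback.condition.symm
    · rw [Category.assoc, pullback.lift_snd, hβ₂, Category.id_comp]
  · apply pullback.hom_ext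
    · rw [Category.assoc, hβ₁, hαc, comp_pre, Category.id_comp]
      refine (comp_congr _ ((pullback.lift_fst_assoc _ _ _ _).trans (pullback.lift_fst _ _ _))
        ((pullback.lift_snd _ _ _).trans (inv_inv q).symm)).trans ?_
      exact comp_inv_cancel p (q ≫ G.i) hpq (by simp)
    · rw [Category.assoc, hβ₂, pullback.lift_snd, Category.id_comp]

end Groth.Agent.Grpd6.Basic

namespace Groth.Agent.Grpd6.Orbit

theorem equivalence {S U R : Scheme.{u}} (pU : U ⟶ S) (j : R ⟶ pullback pU pU)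
    (hj : ∀ T : Scheme.{u}, Equivalence (fun a b : T ⟶ U => ∃ r : T ⟶ R,
      r ≫ j ≫ pullback.fst pU pU = a ∧ r ≫ j ≫ pullback.snd pU pU = b)) :
    Equivalence (fun x y : ↥U => ∃ r : R, (j ≫ pullback.fst pU pU) r = x ∧ (j ≫ pullback.snd pU pU) r = y) := by
  constructor
  · intro x
    obtain ⟨r, hr₁, hr₂⟩ := (hj _).refl (U.fromSpecResidueField x)
    refine ⟨r (IsLocalRing.closedPoint (U.residueField x)), ?_, ?_⟩
    · rw [← Scheme.Hom.comp_apply, hr₁, Scheme.fromSpecResidueField_apply]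
    · rw [← Scheme.Hom.comp_apply, hr₂, Scheme.fromSpecResidueField_apply]
  · rintro x y ⟨r, hx, hy⟩
    obtain ⟨r', hr₁, hr₂⟩ := (hj _).symm (show ∃ r' : _ ⟶ R, r' ≫ j ≫ pullback.fst pU pU = _ ∧
      r' ≫ j ≫ pullback.snd pU pU = _ from ⟨R.fromSpecResidueField r, rfl, rfl⟩)
    refine ⟨r' (IsLocalRing.closedPoint (R.residueField r)), ?_, ?_⟩
    · rw [← Scheme.Hom.comp_apply, hr₁, Scheme.Hom.comp_apply, Scheme.fromSpecResidueField_apply, hy]
    · rw [← Scheme.Hom.comp_apply, hr₂, Scheme.Hom.comp_apply, Scheme.fromSpecResidueField_apply, hx]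
  · rintro x y w ⟨r₁, hx, hy⟩ ⟨r₂, hy', hw⟩
    obtain ⟨z, hz₁, hz₂⟩ := Scheme.Pullback.exists_preimage_pullback (f := j ≫ pullback.snd pU pU)
      (g := j ≫ pullback.fst pU pU) r₁ r₂ (hy.trans hy'.symm)
    let P := pullback (j ≫ pullback.snd pU pU) (j ≫ pullback.fst pU pU)
    obtain ⟨r, hr₁, hr₂⟩ := (hj P).trans (x := pullback.fst _ _ ≫ j ≫ pullback.fst pU pU)
      ⟨pullback.fst _ _, rfl, rfl⟩ ⟨pullback.snd _ _, pullback.condition.symm, rfl⟩
    refine ⟨r z, ?_, ?_⟩
    · rw [← Scheme.Hom.comp_apply, hr₁, Scheme.Hom.comp_apply, hz₁, hx]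
    · rw [← Scheme.Hom.comp_apply, hr₂, Scheme.Hom.comp_apply, hz₂, hw]

end Groth.Agent.Grpd6.Orbit

end
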