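import Groth.Agent.Grpd6.Norm
import Mathlib.RingTheory.IsTensorProduct
import Mathlib.RingTheory.TensorProduct.Free

/-!
A basis of functions of the form `t♯ x` gives a basis over the invariants.
-/

universe u

open CategoryTheory TensorProduct

set_option backward.isDefEq.respectTransparency.types false

noncomputable section

namespace Groth.Agent.Grpd6.BasisCore

/-- the coordinate map of a pushout of a free algebra -/
theorem linearIndependent_map {A B A' B' : CommRingCat.{u}} (σ : A ⟶ B) (φ : A ⟶ A') (σ' : A' ⟶ B') (g : B ⟶ B')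
    (h : IsPushout φ σ σ' g) {I : Type u} (v : I → B)
    (hv : letI := σ.hom.toAlgebra; ∃ b : Module.Basis I A B, ∀ i, b i = v i) :
    letI := σ'.hom.toAlgebra; LinearIndependent A' fun i => g.hom (v i) := by
  letI : Algebra A B := σ.hom.toAlgebra
  letI : Algebra A A' := φ.hom.toAlgebra
  letI : Algebra A' B' := σ'.hom.toAlgebra
  letI : Algebra B B' := g.hom.toAlgebra
  letI : Algebra A B' := (σ'.hom.comp φ.hom).toAlgebra
  haveI : IsScalarTower A A' B' := IsScalarTower.of_algebraMap_eq' rfl
  haveI : IsScalarTower A B B' := IsScalarTower.of_algebraMap_eq'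
    (show σ'.hom.comp φ.hom = g.hom.comp σ.hom from congrArg CommRingCat.Hom.hom h.w)
  haveI : Algebra.IsPushout A A' B B' := CommRingCat.isPushout_iff_isPushout.mp h
  let e : A' ⊗[A] B ≃ₐ[A'] B' := Algebra.IsPushout.equiv A A' B B'
  obtain ⟨b, hb⟩ := hv
  have : (fun i => g.hom (v i)) = (Algebra.TensorProduct.basis A' b).map e.toLinearEquiv := by
    funext i
    simp [e, Algebra.IsPushout.equiv_tmul, RingHom.algebraMap_toAlgebra, hb]
  rw [this]
  exact ((Algebra.TensorProduct.basis A' b).map e.toLinearEquiv).linearIndependent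

variable {A B B₂ : CommRingCat.{u}} (σ τ : A ⟶ B) (π c p : B ⟶ B₂) (ε : B ⟶ A)

theorem exists_basis (h₁ : IsPushout σ σ π c) (h₂ : IsPushout τ σ π p) (hτ : τ ≫ c = τ ≫ p)
    (hεσ : σ ≫ ε = 𝟙 A) (hετ : τ ≫ ε = 𝟙 A) {C : Type u} [CommRing C] [Algebra C A]
    (hinj : Function.Injective (algebraMap C A)) (hC : ∀ a, a ∈ Set.range (algebraMap C A) ↔ σ.hom a = τ.hom a)
    {I : Type u} (x : I → A) (hB : letI := σ.hom.toAlgebra; ∃ b : Module.Basis I A B, ∀ i, b i = τ.hom (x i)) :
    ∃ b : Module.Basis I C A, ∀ i, b i = x i := by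
  letI : Algebra A B := σ.hom.toAlgebra
  letI : Algebra B B₂ := π.hom.toAlgebra
  have hτ' : ∀ a, c.hom (τ.hom a) = p.hom (τ.hom a) := fun a => congrArg (fun f : A ⟶ B₂ => f.hom a) hτ
  have li := linearIndependent_map σ σ π c h₁ (fun i => τ.hom (x i)) hB
  obtain ⟨b, hb⟩ := hB
  have hσc : ∀ a, c.hom (σ.hom a) = π.hom (σ.hom a) := fun a => (congrArg (fun f : A ⟶ B₂ => f.hom a) h₁.w).symm
  have hσp : ∀ a, p.hom (σ.hom a) = π.hom (τ.hom a) := fun a => (congrArg (fun f : A ⟶ B₂ => f.hom a) h₂.w).symm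
  have hcC : ∀ d : C, τ.hom (algebraMap C A d) = σ.hom (algebraMap C A d) := fun d => ((hC _).1 ⟨d, rfl⟩).symm
  have key : ∀ (l : I →₀ A), l.sum (fun i a => σ.hom a * τ.hom (x i)) ∈ Set.range τ.hom →
      ∀ i, σ.hom (l i) = τ.hom (l i) := by
    rintro l ⟨a, ha⟩ i
    have e1 := congrArg c.hom ha
    have e2 := congrArg p.hom ha
    simp only [map_finsuppSum, map_mul, hσc, hσp, hτ'] at e1 e2
    have e3 : Finsupp.linearCombination B (fun i => c.hom (τ.hom (x i))) (l.mapRange σ.hom (map_zero _)) =
        Finsupp.linearCombination B (fun i => c.hom (τ.hom (x i))) (l.mapRange τ.hom (map_zero _)) := by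
      rw [Finsupp.linearCombination_apply, Finsupp.linearCombination_apply,
        Finsupp.sum_mapRange_index (by simp), Finsupp.sum_mapRange_index (by simp)]
      simp only [Algebra.smul_def, RingHom.algebraMap_toAlgebra, hτ']
      exact e1.symm.trans e2
    exact DFunLike.congr_fun (li e3) i
  have hsum : ∀ l : I →₀ A, Finsupp.linearCombination A b l = l.sum (fun i a => σ.hom a * τ.hom (x i)) := fun l => by
    rw [Finsupp.linearCombination_apply]
    simp only [hb, Algebra.smul_def]
    rfl
  have hli : LinearIndependent C x := by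
    rw [linearIndependent_iff]
    intro l hl
    have h0 : Finsupp.linearCombination A b (l.mapRange (algebraMap C A) (map_zero _)) = 0 := by
      rw [hsum, Finsupp.sum_mapRange_index (by simp)]
      have := congrArg τ.hom hl
      rw [Finsupp.linearCombination_apply, map_finsuppSum, map_zero] at this
      simpa only [Algebra.smul_def, map_mul, hcC] using this
    ext i
    have h1 := DFunLike.congr_fun (linearIndependent_iff.1 b.linearIndependent _ h0) i
    rw [Finsupp.mapRange_apply, Finsupp.coe_zero, Pi.zero_apply] at h1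
    exact hinj (by rw [h1, Finsupp.coe_zero, Pi.zero_apply, map_zero])
  refine ⟨Module.Basis.mk hli fun a _ => ?_, fun i => Module.Basis.mk_apply _ _ _⟩
  let l := b.repr (τ.hom a)
  have hl : Finsupp.linearCombination A b l = τ.hom a := b.linearCombination_repr _
  rw [hsum] at hl
  have hinv := key l ⟨a, hl.symm⟩
  have ha : a = l.sum fun i v => v * x i := by
    have := congrArg ε.hom hl.symm
    simp only [map_finsuppSum, map_mul] at this
    have hεσ' : ∀ z, ε.hom (σ.hom z) = z := fun z => congrArg (fun f : A ⟶ A => f.hom z) hεσ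
    have hετ' : ∀ z, ε.hom (τ.hom z) = z := fun z => congrArg (fun f : A ⟶ A => f.hom z) hετ
    simpa only [hεσ', hετ'] using this
  rw [ha]
  refine Submodule.sum_mem _ fun i _ => ?_
  obtain ⟨d, hd⟩ := (hC _).2 (hinv i)
  show l i * x i ∈ _
  rw [← hd, ← Algebra.smul_def]
  exact Submodule.smul_mem _ d (Submodule.subset_span ⟨i, rfl⟩)

theorem bijective {C : Type u} [CommRing C] [Algebra C A] {I : Type u} (x : I → A)
    (b₀ : Module.Basis I C A) (hb₀ : ∀ i, b₀ i = x i)
    (hB : letI := σ.hom.toAlgebra; ∃ b : Module.Basis I A B, ∀ i, b i = τ.hom (x i))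
    (hcC : ∀ d : C, τ.hom (algebraMap C A d) = σ.hom (algebraMap C A d))
    (φ : TensorProduct C A A →+ B) (hφ : ∀ a a', φ (a ⊗ₜ[C] a') = τ.hom a * σ.hom a') : Function.Bijective φ := by
  letI : Algebra A B := σ.hom.toAlgebra
  obtain ⟨b, hb⟩ := hB
  let b' := Algebra.TensorProduct.basis A b₀
  let e : TensorProduct C A A ≃ₗ[C] TensorProduct C A A := TensorProduct.comm C A A
  let ψ : TensorProduct C A A ≃ₗ[A] B := b'.equiv b (Equiv.refl I)
  have hψ : ∀ z, φ z = ψ (e z) := by
    intro z
    induction z using TensorProduct.induction_on with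
    | zero => simp
    | add z w hz hw => simp [hz, hw]
    | tmul a a' =>
      rw [hφ]
      show _ = ψ (a' ⊗ₜ a)
      have h2 : ψ (1 ⊗ₜ[C] a) = τ.hom a := by
        have hx : ∀ i, ψ (1 ⊗ₜ[C] x i) = τ.hom (x i) := fun i => by
          rw [← hb₀, ← Algebra.TensorProduct.basis_apply, Module.Basis.equiv_apply, Equiv.refl_apply, hb, hb₀]
        rw [← b₀.linearCombination_repr a, Finsupp.linearCombination_apply, Finsupp.sum, map_sum, TensorProduct.tmul_sum, map_sum]
        refine Finset.sum_congr rfl fun i _ => ?_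
        rw [hb₀, TensorProduct.tmul_smul, ← algebraMap_smul A (b₀.repr a i) ((1 : A) ⊗ₜ[C] x i), map_smul, hx,
          Algebra.smul_def, Algebra.smul_def, map_mul, hcC]
        rfl
      rw [show a' ⊗ₜ[C] a = a' • ((1 : A) ⊗ₜ[C] a) by rw [TensorProduct.smul_tmul', smul_eq_mul, mul_one],
        map_smul, h2, Algebra.smul_def]
      exact mul_comm _ _
  exact (funext hψ : ⇑φ = ψ ∘ e) ▸ ψ.bijective.comp e.bijective

end Groth.Agent.Grpd6.BasisCore

end
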