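import Groth.Agent.Grpd6.Norm
import Mathlib.LinearAlgebra.Matrix.Charpoly.Coeff
import Mathlib.RingTheory.Flat.Stability
import Mathlib.RingTheory.Finiteness.Projective
import Mathlib.RingTheory.Finiteness.ModuleFinitePresentation

/-!
Characteristic polynomials for finite projective algebras; integrality over invariants.
-/

universe u

open CategoryTheory AlgebraicGeometry Limits Polynomial Matrix

set_option backward.isDefEq.respectTransparency.types false

noncomputable section

namespace Groth.Agent.Grpd6.CharRev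

theorem charpolyRev_mul_comm {A : Type*} [CommRing A] {m n : ℕ} (U : Matrix (Fin m) (Fin n) A)
    (V : Matrix (Fin n) (Fin m) A) : (U * V).charpolyRev = (V * U).charpolyRev := by
  unfold Matrix.charpolyRev
  rw [Matrix.map_mul, Matrix.map_mul, ← Matrix.smul_mul, Matrix.det_one_sub_mul_comm, Matrix.mul_smul]

/-- a presentation of an algebra as a direct summand of a free module of rank `n` -/
structure Split (A B : Type u) [CommRing A] [CommRing B] [Algebra A B] (n : ℕ) where
  /-- the inclusion -/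
  i : B →ₗ[A] (Fin n → A)
  /-- the projection -/
  p : (Fin n → A) →ₗ[A] B
  h : p ∘ₗ i = LinearMap.id

variable {A B : Type u} [CommRing A] [CommRing B] [Algebra A B]

/-- the matrix of multiplication by an element -/
def mat {n : ℕ} (P : Split A B n) (b : B) : Matrix (Fin n) (Fin n) A :=
  LinearMap.toMatrix' (P.i ∘ₗ LinearMap.mulLeft A b ∘ₗ P.p)

theorem charpolyRev_eq {m n : ℕ} (P : Split A B m) (Q : Split A B n) (b : B) :
    (mat P b).charpolyRev = (mat Q b).charpolyRev := by
  have h1 : mat P b = LinearMap.toMatrix' (P.i ∘ₗ Q.p) * LinearMap.toMatrix' (Q.i ∘ₗ LinearMap.mulLeft A b ∘ₗ P.p) := by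
    rw [mat, ← LinearMap.toMatrix'_comp]
    refine congrArg LinearMap.toMatrix' (LinearMap.ext fun x => ?_)
    simp only [LinearMap.comp_apply]
    rw [show Q.p (Q.i (LinearMap.mulLeft A b (P.p x))) = LinearMap.mulLeft A b (P.p x) from LinearMap.congr_fun Q.h _]
  have h2 : mat Q b = LinearMap.toMatrix' (Q.i ∘ₗ LinearMap.mulLeft A b ∘ₗ P.p) * LinearMap.toMatrix' (P.i ∘ₗ Q.p) := by
    rw [mat, ← LinearMap.toMatrix'_comp]
    refine congrArg LinearMap.toMatrix' (LinearMap.ext fun x => ?_)
    simp only [LinearMap.comp_apply]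
    rw [show P.p (P.i (Q.p x)) = Q.p x from LinearMap.congr_fun P.h _]
  rw [h1, h2, charpolyRev_mul_comm]

/-- the polynomial annihilates the element -/
theorem aeval_charpoly {n : ℕ} (P : Split A B n) (b : B) : Polynomial.aeval b (mat P b).charpoly = 0 := by
  have key : ∀ q : A[X], Polynomial.aeval (mat P b) q *ᵥ (P.i 1) = P.i (Polynomial.aeval b q) := by
    intro q
    induction q using Polynomial.induction_on' with
    | add p q hp hq => rw [map_add, map_add, Matrix.add_mulVec, hp, hq, map_add]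
    | monomial k a =>
      rw [Polynomial.aeval_monomial, Polynomial.aeval_monomial, ← Algebra.smul_def, ← Algebra.smul_def,
        Matrix.smul_mulVec, map_smul]
      congr 1
      induction k with
      | zero => simp
      | succ k ih =>
        rw [pow_succ', ← Matrix.mulVec_mulVec, ih, mat, LinearMap.toMatrix'_mulVec]
        simp only [LinearMap.comp_apply]
        rw [show P.p (P.i (b ^ k)) = b ^ k from LinearMap.congr_fun P.h _, pow_succ']
        rfl
  have h := key (mat P b).charpoly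
  rw [Matrix.aeval_self_charpoly, Matrix.zero_mulVec] at h
  have h2 := congrArg P.p h.symm
  rwa [map_zero, show P.p (P.i _) = _ from LinearMap.congr_fun P.h _] at h2

/-- base change of a presentation along a pushout -/
theorem exists_baseChange {A' B' : Type u} [CommRing A'] [CommRing B'] [Algebra A A'] [Algebra A' B'] [Algebra B B']
    [Algebra A B'] [IsScalarTower A A' B'] [IsScalarTower A B B'] [Algebra.IsPushout A A' B B'] {n : ℕ}
    (P : Split A B n) :
    ∃ P' : Split A' B' n, ∀ b : B, mat P' (algebraMap B B' b) = (mat P b).map (algebraMap A A') := by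
  have hbc : IsBaseChange A' (IsScalarTower.toAlgHom A B B').toLinearMap := Algebra.IsPushout.out
  let φn : (Fin n → A) →ₗ[A] (Fin n → A') := LinearMap.pi fun j => (Algebra.linearMap A A') ∘ₗ LinearMap.proj j
  let i' : B' →ₗ[A'] (Fin n → A') := hbc.lift (φn ∘ₗ P.i)
  let p' : (Fin n → A') →ₗ[A'] B' := Fintype.linearCombination A' fun k => algebraMap B B' (P.p (Pi.single k 1))
  have hi : ∀ x, i' (algebraMap B B' x) = fun j => algebraMap A A' (P.i x j) := fun x => hbc.lift_eq (φn ∘ₗ P.i) x
  have hp : ∀ v : Fin n → A, p' (fun j => algebraMap A A' (v j)) = algebraMap B B' (P.p v) := fun v => by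
    conv_rhs => rw [show v = ∑ k, v k • Pi.single k (1 : A) by
      funext j; simp [Finset.sum_apply, Pi.single_apply]]
    simp only [p', Fintype.linearCombination_apply, map_sum, map_smul]
    refine Finset.sum_congr rfl fun k _ => ?_
    rw [Algebra.smul_def, Algebra.smul_def, map_mul, ← IsScalarTower.algebraMap_apply A A' B',
      ← IsScalarTower.algebraMap_apply A B B']
  refine ⟨⟨i', p', hbc.algHom_ext _ _ fun x => ?_⟩, fun b => ?_⟩
  · show p' (i' (algebraMap B B' x)) = algebraMap B B' x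
    rw [hi, hp, show P.p (P.i x) = x from LinearMap.congr_fun P.h x]
  · ext j k
    simp only [mat, LinearMap.toMatrix'_apply, Matrix.map_apply, LinearMap.comp_apply, LinearMap.mulLeft_apply]
    have hk : p' (Pi.single k 1) = algebraMap B B' (P.p (Pi.single k 1)) := by
      rw [← hp]
      refine congrArg p' (funext fun j' => ?_)
      by_cases hj : j' = k
      · subst hj; simp
      · simp [hj]
    rw [hk, ← map_mul, hi]

variable {S : Scheme.{u}} {G : Grpd.GroupoidScheme S}

open Basic

theorem isIntegral [IsAffine G.U] [IsAffine G.R] [IsFinite G.s] [Flat G.s] [LocallyOfFinitePresentation G.s] :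
    Algebra.IsIntegral G.invariants Γ(G.U, ⊤) := by
  refine ⟨fun f => ?_⟩
  rcases subsingleton_or_nontrivial Γ(G.U, ⊤) with _ | _
  · exact ⟨1, Polynomial.monic_one, Subsingleton.elim _ _⟩
  let σ := G.s.appTop
  let τ := G.t.appTop
  letI : Algebra Γ(G.U, ⊤) Γ(G.R, ⊤) := σ.hom.toAlgebra
  have hfin : Module.Finite Γ(G.U, ⊤) Γ(G.R, ⊤) := G.s.finite_appTop
  have hflat : Module.Flat Γ(G.U, ⊤) Γ(G.R, ⊤) := HasRingHomProperty.appTop @Flat G.s ‹_›
  have hfp : Algebra.FinitePresentation Γ(G.U, ⊤) Γ(G.R, ⊤) :=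
    HasRingHomProperty.appTop @LocallyOfFinitePresentation G.s ‹_›
  have : Module.FinitePresentation Γ(G.U, ⊤) Γ(G.R, ⊤) := Module.FinitePresentation.of_finite_of_finitePresentation _ _
  have : Module.Projective Γ(G.U, ⊤) Γ(G.R, ⊤) := Module.Flat.projective_of_finitePresentation
  obtain ⟨n, π, ι', hπ, -, hcomp⟩ := Module.Finite.exists_comp_eq_id_of_projective Γ(G.U, ⊤) Γ(G.R, ⊤)
  let P : Split Γ(G.U, ⊤) Γ(G.R, ⊤) n := ⟨ι', π, hcomp⟩
  let z := τ.hom f
  let M := mat P z
  -- invariance of the reversed polynomial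
  have key : M.charpolyRev.map σ.hom = M.charpolyRev.map τ.hom := by
    let R₂ := pullback G.s G.t
    letI : Algebra Γ(G.R, ⊤) Γ(R₂, ⊤) := (pullback.snd G.s G.t).appTop.hom.toAlgebra
    have h1 := (isPushout_appTop_of_isPullback (isPullback_c (G := G))).flip
    have h2 := (isPushout_appTop_of_isPullback (IsPullback.of_hasPullback G.s G.t)).flip
    have hz : G.c.appTop.hom z = (pullback.fst G.s G.t).appTop.hom z := by
      have := G.comp_t (pullback.fst G.s G.t) (pullback.snd G.s G.t) pullback.condition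
      rw [show pullback.lift (pullback.fst G.s G.t) (pullback.snd G.s G.t) pullback.condition = 𝟙 _ by
        apply pullback.hom_ext <;> simp [pullback.lift_fst, pullback.lift_snd], Category.id_comp] at this
      exact congrArg (fun φ : R₂ ⟶ G.U => φ.appTop.hom f) this
    have main : ∀ (φ : Γ(G.U, ⊤) ⟶ Γ(G.R, ⊤)) (g : Γ(G.R, ⊤) ⟶ Γ(R₂, ⊤)),
        IsPushout φ σ (pullback.snd G.s G.t).appTop g →
        ∃ P' : Split Γ(G.R, ⊤) Γ(R₂, ⊤) n, mat P' (g.hom z) = M.map φ.hom := by
      intro φ g h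
      letI a₁ : Algebra Γ(G.U, ⊤) Γ(R₂, ⊤) := ((pullback.snd G.s G.t).appTop.hom.comp φ.hom).toAlgebra
      obtain ⟨P', h'⟩ := @exists_baseChange Γ(G.U, ⊤) Γ(G.R, ⊤) _ _ σ.hom.toAlgebra Γ(G.R, ⊤) Γ(R₂, ⊤) _ _ φ.hom.toAlgebra
        (pullback.snd G.s G.t).appTop.hom.toAlgebra g.hom.toAlgebra a₁
        (@IsScalarTower.of_algebraMap_eq' _ _ _ _ _ _ φ.hom.toAlgebra (pullback.snd G.s G.t).appTop.hom.toAlgebra a₁ rfl)
        (@IsScalarTower.of_algebraMap_eq' _ _ _ _ _ _ σ.hom.toAlgebra g.hom.toAlgebra a₁ (congrArg CommRingCat.Hom.hom h.w))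
        (@CommRingCat.isPushout_iff_isPushout Γ(G.U, ⊤) Γ(G.R, ⊤) _ _ σ.hom.toAlgebra Γ(G.R, ⊤) Γ(R₂, ⊤) _ _
          φ.hom.toAlgebra g.hom.toAlgebra (pullback.snd G.s G.t).appTop.hom.toAlgebra a₁
          (@IsScalarTower.of_algebraMap_eq' _ _ _ _ _ _ φ.hom.toAlgebra (pullback.snd G.s G.t).appTop.hom.toAlgebra a₁ rfl)
          (@IsScalarTower.of_algebraMap_eq' _ _ _ _ _ _ σ.hom.toAlgebra g.hom.toAlgebra a₁ (congrArg CommRingCat.Hom.hom h.w))
          |>.mp h) n P
      exact ⟨P', h' z⟩
    obtain ⟨P₁, e₁⟩ := main σ G.c.appTop h1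
    obtain ⟨P₂, e₂⟩ := main τ (pullback.fst G.s G.t).appTop h2
    have h := charpolyRev_eq P₁ P₂ (G.c.appTop.hom z)
    rw [e₁, hz, e₂] at h
    have hmap : ∀ φ : Γ(G.U, ⊤) ⟶ Γ(G.R, ⊤), (M.map φ.hom).charpolyRev = M.charpolyRev.map φ.hom := fun φ => by
      unfold Matrix.charpolyRev
      rw [← Polynomial.coe_mapRingHom, RingHom.map_det]
      congr 1
      ext i j
      by_cases hij : i = j <;> simp [hij]
    rwa [hmap σ, hmap τ] at h
  have hco : ∀ j, M.charpoly.coeff j ∈ G.invariants := by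
    intro j
    by_cases hj : j ≤ M.charpoly.natDegree
    · have h := congrArg (fun q => Polynomial.coeff q (M.charpoly.natDegree - j)) key
      simp only [Polynomial.coeff_map, ← Matrix.reverse_charpoly, Polynomial.coeff_reverse] at h
      rwa [Polynomial.revAt_le (Nat.sub_le _ _), Nat.sub_sub_self hj] at h
    · rw [Polynomial.coeff_eq_zero_of_natDegree_lt (not_le.1 hj)]
      exact zero_mem _
  obtain ⟨q, hq, -, hqm⟩ := Polynomial.lifts_and_degree_eq_and_monic
    (show M.charpoly ∈ Polynomial.lifts G.invariants.subtype from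
      (Polynomial.lifts_iff_coeff_lifts _).2 fun j => ⟨⟨_, hco j⟩, rfl⟩) (Matrix.charpoly_monic M)
  refine ⟨q, hqm, ?_⟩
  have h0 : Polynomial.eval₂ σ.hom z M.charpoly = 0 := aeval_charpoly P z
  have h1 := congrArg G.e.appTop.hom h0
  rw [map_zero, Polynomial.hom_eval₂] at h1
  have es : G.e.appTop.hom.comp σ.hom = RingHom.id _ :=
    congrArg CommRingCat.Hom.hom (show σ ≫ G.e.appTop = 𝟙 _ by rw [← Scheme.Hom.comp_appTop, G.e_s]; rfl)
  have et : G.e.appTop.hom z = f :=
    congrArg (fun φ : G.U ⟶ G.U => φ.appTop.hom f) G.e_t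
  rw [es, et, ← hq, Polynomial.eval₂_map] at h1
  exact h1

end Groth.Agent.Grpd6.CharRev

end
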