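import Mathlib.AlgebraicGeometry.Properties
import Mathlib.Topology.Sober

/-!
Order-theoretic invariance of codimension of points along maps lifting generizations.
-/

open Topology

namespace Groth.Agent.Grpd6.DimOrder

theorem coheight_map_eq {α β : Type*} [Preorder α] [PartialOrder β] (f : α → β) (hf : Monotone f) (x : α)
    (hlift : ∀ x' ≥ x, ∀ y ≥ f x', ∃ z ≥ x', f z = y)
    (hfib : ∀ a b, a ≤ b → f a = f b → b ≤ a) : Order.coheight (f x) = Order.coheight x := by
  refine le_antisymm ?_ (Order.coheight_le_coheight_apply_of_strictMono f (fun a b h =>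
    lt_of_le_of_ne (hf h.le) fun he => h.not_ge (hfib a b h.le he)) x)
  refine Order.coheight_le fun p hp => ?_
  have key : ∀ (n : ℕ) (q : LTSeries β) (x' : α), x ≤ x' → q.length = n → q.head = f x' →
      (n : ℕ∞) ≤ Order.coheight x' := by
    intro n
    induction n with
    | zero => intros; simp
    | succ n ih =>
      intro q x' hx' hn hq
      have h1 : q.head < q ⟨1, by omega⟩ := q.strictMono (by rw [Fin.lt_def]; simp)
      obtain ⟨z, hz, hfz⟩ := hlift x' hx' (q ⟨1, by omega⟩) (hq ▸ h1.le)
      have hlt : x' < z := lt_of_le_not_ge hz fun h => (h1.trans_le (hfz ▸ hf h)).ne (hq.trans rfl)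
      have h2 := ih (q.tail (by omega)) z (hx'.trans hz) (by simp [hn]) (by
        rw [RelSeries.head_tail]; exact (congrArg q (Fin.ext (by simp [Nat.mod_eq_of_lt (show 1 < q.length + 1 by omega)]))).trans hfz.symm)
      calc ((n + 1 : ℕ) : ℕ∞) = (n : ℕ∞) + 1 := by push_cast; rfl
        _ ≤ Order.coheight z + 1 := by gcongr
        _ ≤ _ := Order.coheight_add_one_le hlt
  exact key p.length p x le_rfl rfl hp

end Groth.Agent.Grpd6.DimOrder
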