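import Groth.Agent.Grpd6.Basic
import Groth.Agent.Grpd6.DimOrder
import Groth.Agent.Topo.IntegralDim
import Mathlib.AlgebraicGeometry.Properties
import Mathlib.AlgebraicGeometry.AlgClosed.Basic
import Mathlib.RingTheory.Flat.TorsionFree
import Mathlib.FieldTheory.IsAlgClosed.AlgebraicClosure
import Mathlib.RingTheory.RootsOfUnity.AlgebraicallyClosed

/-!
Dimension theory of a groupoid scheme over a point.
-/

universe u

open CategoryTheory AlgebraicGeometry Limits

set_option linter.style.haveILetI false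
set_option backward.isDefEq.respectTransparency.types false

noncomputable section

namespace Groth.Agent.Grpd6.Dim

open Basic

attribute [local simp] pullback.lift_fst pullback.lift_snd pullback.lift_fst_assoc pullback.lift_snd_assoc
  Grpd.GroupoidScheme.i_s Grpd.GroupoidScheme.i_t Grpd.GroupoidScheme.e_s Grpd.GroupoidScheme.e_t

/-- the specialization order of a scheme is antisymmetric -/
@[reducible] def pointOrder (X : Scheme.{u}) : PartialOrder X :=
  { (inferInstance : Preorder X) with le_antisymm := fun a b (h : b ⤳ a) (h' : a ⤳ b) => (h'.antisymm h).eq }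

theorem coheight_map_eq {X Y : Scheme.{u}} (f : X ⟶ Y) (x : X)
    (hlift : ∀ x' : X, x' ⤳ x → ∀ y : Y, y ⤳ f x' → ∃ z : X, z ⤳ x' ∧ f z = y)
    (hfib : ∀ a b : X, a ⤳ b → f a = f b → b ⤳ a) : Order.coheight (f x) = Order.coheight x :=
  @DimOrder.coheight_map_eq X Y _ (pointOrder Y) f (fun a b (h : b ⤳ a) => show f b ⤳ f a from h.map f.continuous) x hlift
    (fun a b h e => hfib b a h e.symm)

theorem topologicalKrullDim_eq (X : Scheme.{u}) :
    topologicalKrullDim X = ⨆ x : X, (Order.coheight x : WithBot ℕ∞) := by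
  letI := pointOrder X
  let e : TopologicalSpace.IrreducibleCloseds X ≃o X :=
    { toEquiv := irreducibleSetEquivPoints.toEquiv
      map_rel_iff' := fun {a b} => (irreducibleSetEquivPoints (α := X)).map_rel_iff }
  exact (Order.krullDim_eq_of_orderIso e).trans Order.krullDim_eq_iSup_coheight

/-- a subfield of a finitely generated domain over a field is algebraic over that field -/
theorem isAlgebraic_of_subfield {k K B : Type u} [Field k] [Field K] [CommRing B] [IsDomain B] [Algebra k B]
    [Algebra.FiniteType k B] (τ : K →+* B) (c : K) : IsAlgebraic k (τ c) := by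
  by_contra htr
  let y := τ c
  let φ : Polynomial k →ₐ[k] B := Polynomial.aeval y
  have hinj : Function.Injective φ := transcendental_iff_injective.1 htr
  algebraize [(φ : Polynomial k →+* B)]
  have : IsScalarTower k (Polynomial k) B := IsScalarTower.of_algebraMap_eq' φ.comp_algebraMap.symm
  have : Algebra.FiniteType (Polynomial k) B := Algebra.FiniteType.of_restrictScalars_finiteType k _ _
  have : Algebra.FinitePresentation (Polynomial k) B := Algebra.FinitePresentation.of_finiteType.mp this
  have : Module.IsTorsionFree (Polynomial k) B := Module.isTorsionFree_iff_algebraMap_injective.2 hinj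
  have : Module.Flat (Polynomial k) B := by
    rw [Module.Flat.flat_iff_torsion_eq_bot_of_isBezout, ← Submodule.isTorsionFree_iff_torsion_eq_bot]
    infer_instance
  have hop := PrimeSpectrum.isOpenMap_comap_of_hasGoingDown_of_finitePresentation (R := Polynomial k) (S := B)
  obtain ⟨_, ⟨_, ⟨h, rfl⟩, rfl⟩, hP, hsub⟩ := PrimeSpectrum.isBasis_basic_opens.exists_subset_of_mem_open
    (Set.mem_range_self (f := PrimeSpectrum.comap (algebraMap (Polynomial k) B)) ⟨⊥, Ideal.isPrime_bot⟩)
    hop.isOpen_range
  have h0 : h ≠ 0 := fun e => hP (e ▸ zero_mem _)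
  let L := AlgebraicClosure k
  have hroots : ((fun x : L => orderOf x) '' (h.rootSet L) ∪ {ringChar L}).Finite :=
    ((Polynomial.rootSet_finite h L).image _).union (Set.finite_singleton _)
  obtain ⟨N, hN, hNmem⟩ := Nat.infinite_setOf_prime.exists_notMem_finite hroots
  have hN' : Nat.Prime N := hN
  have : NeZero (N : L) := ⟨fun h => by
    have hdvd := ringChar.dvd h
    rcases (Nat.dvd_prime hN').1 hdvd with h1 | h1
    · exact CharP.ringChar_ne_one h1
    · exact hNmem (Or.inr h1.symm)⟩
  have : NeZero N := ⟨hN'.ne_zero⟩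
  obtain ⟨α, hα⟩ := HasEnoughRootsOfUnity.exists_primitiveRoot L N
  have hαh : Polynomial.aeval α h ≠ 0 := fun he =>
    hNmem (Or.inl ⟨α, (Polynomial.mem_rootSet_of_ne h0).2 he, hα.eq_orderOf.symm⟩)
  let ev : Polynomial k →+* L := (Polynomial.aeval α : Polynomial k →ₐ[k] L).toRingHom
  let p : PrimeSpectrum (Polynomial k) := ⟨RingHom.ker ev, RingHom.ker_isPrime _⟩
  obtain ⟨Q, hQ⟩ := hsub (show p ∈ PrimeSpectrum.basicOpen h from hαh)
  have hmem : φ (Polynomial.X ^ N - 1) ∈ Q.asIdeal := by
    have h1 : (Polynomial.X ^ N - 1 : Polynomial k) ∈ p.asIdeal := by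
      show ev _ = 0
      simp [ev, hα.pow_eq_one]
    rw [← hQ] at h1
    exact h1
  have hc : c ^ N - 1 ≠ 0 := by
    intro hc
    have h1 : φ (Polynomial.X ^ N - 1) = φ 0 := by
      simp only [φ, map_sub, map_pow, Polynomial.aeval_X, map_one, map_zero, y]
      rw [← map_pow, ← map_one τ, ← map_sub, hc, map_zero]
    exact (Polynomial.X_pow_sub_C_ne_zero hN'.pos (1 : k)) (by simpa using hinj h1)
  refine Q.isPrime.ne_top (Ideal.eq_top_of_isUnit_mem _ hmem ?_)
  have : φ (Polynomial.X ^ N - 1) = τ (c ^ N - 1) := by simp [φ, y]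
  rw [this]
  exact (isUnit_iff_ne_zero.2 hc).map τ

/-- two field structures on a finitely generated domain which agree at one point agree -/
theorem eq_of_sub_mem {k B : Type u} [Field k] [CommRing B] [IsDomain B] [Algebra k B]
    [Algebra.FiniteType k B] (τ : k →+* B) (c : k) (Q : Ideal B) [Q.IsPrime]
    (h : τ c - algebraMap k B c ∈ Q) : τ c = algebraMap k B c := by
  by_contra hne
  have halg : IsAlgebraic k (τ c - algebraMap k B c) :=
    (isAlgebraic_of_subfield τ c).sub (isAlgebraic_algebraMap c)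
  have hz : τ c - algebraMap k B c ≠ 0 := sub_ne_zero.2 hne
  obtain ⟨b, hb⟩ := IsAlgebraic.exists_nonzero_dvd (R := k) halg (mem_nonZeroDivisors_of_ne_zero hz)
  obtain ⟨hb0, hdvd⟩ := hb
  exact (Ideal.IsPrime.ne_top inferInstance) (Ideal.eq_top_of_isUnit_mem Q h
    (isUnit_of_dvd_unit hdvd ((isUnit_iff_ne_zero.2 hb0).map _)))

variable {S : Scheme.{u}} {G : Grpd.GroupoidScheme S} {k : Type u} [Field k] (eU : G.U ≅ Spec (CommRingCat.of k))

variable (G) in
/-- the map from the stabilizer to the arrows -/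
def q : G.stabilizer ⟶ G.R := pullback.fst G.j G.diag

theorem isPreimmersion_q : IsPreimmersion (q (G := G)) := by
  have : IsImmersion G.diag := by
    have : IsIso (G.diag ≫ pullback.fst G.pU G.pU) := by
      rw [Grpd.GroupoidScheme.diag, pullback.lift_fst]; infer_instance
    exact IsImmersion.of_comp G.diag (pullback.fst G.pU G.pU)
  exact MorphismProperty.pullback_fst (P := @IsPreimmersion) _ _ inferInstance

include eU in
theorem mem_range_q {X : Scheme.{u}} (f : X ⟶ G.R) (x : X) :
    f x ∈ Set.range (q G) ↔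
      X.fromSpecResidueField x ≫ f ≫ G.s = X.fromSpecResidueField x ≫ f ≫ G.t := by
  constructor
  · rintro ⟨z, hz⟩
    obtain ⟨w, hw₁, -⟩ := Scheme.Pullback.exists_preimage_pullback
      (f := X.fromSpecResidueField x ≫ f) (g := q G) (IsLocalRing.closedPoint (X.residueField x)) z
      (by rw [Scheme.Hom.comp_apply, Scheme.fromSpecResidueField_apply, hz])
    let P := pullback (X.fromSpecResidueField x ≫ f) (q G)
    let σ := P.fromSpecResidueField w ≫ pullback.fst (X.fromSpecResidueField x ≫ f) (q G)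
    have hq : q G ≫ G.s = q G ≫ G.t := by
      have h := pullback.condition (f := G.j) (g := G.diag)
      have h₁ := congrArg (· ≫ pullback.fst G.pU G.pU) h
      have h₂ := congrArg (· ≫ pullback.snd G.pU G.pU) h
      simp [Grpd.GroupoidScheme.j, Grpd.GroupoidScheme.diag] at h₁ h₂
      exact h₂.trans h₁.symm
    have h : σ ≫ (X.fromSpecResidueField x ≫ f ≫ G.s) ≫ eU.hom =
        σ ≫ (X.fromSpecResidueField x ≫ f ≫ G.t) ≫ eU.hom := by
      have hc := pullback.condition (f := X.fromSpecResidueField x ≫ f) (g := q G)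
      have hc' : σ ≫ X.fromSpecResidueField x ≫ f =
          P.fromSpecResidueField w ≫ pullback.snd (X.fromSpecResidueField x ≫ f) (q G) ≫ q G := by
        simp only [σ, Category.assoc, P, hc]
      simp only [Category.assoc]
      simp only [reassoc_of% hc', reassoc_of% hq]
    rw [← cancel_mono eU.hom]
    obtain ⟨σ', hσ'⟩ := Spec.map_surjective σ
    obtain ⟨a, ha⟩ := Spec.map_surjective ((X.fromSpecResidueField x ≫ f ≫ G.s) ≫ eU.hom)
    obtain ⟨b, hb⟩ := Spec.map_surjective ((X.fromSpecResidueField x ≫ f ≫ G.t) ≫ eU.hom)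
    rw [← ha, ← hb, ← hσ', ← Spec.map_comp, ← Spec.map_comp, Spec.map_inj] at h
    rw [← ha, ← hb]
    exact congrArg Spec.map (CommRingCat.hom_ext (RingHom.ext fun c =>
      σ'.hom.injective (congrArg (fun φ : CommRingCat.of k ⟶ _ => φ.hom c) h)))
  · intro h
    let p := X.fromSpecResidueField x ≫ f
    let z : Spec (X.residueField x) ⟶ G.stabilizer := pullback.lift p (p ≫ G.t) (by
      apply pullback.hom_ext <;> simp [p, Grpd.GroupoidScheme.j, Grpd.GroupoidScheme.diag, h])
    refine ⟨z (IsLocalRing.closedPoint (X.residueField x)), ?_⟩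
    rw [← Scheme.Hom.comp_apply, show z ≫ q G = p from pullback.lift_fst _ _ _, Scheme.Hom.comp_apply,
      Scheme.fromSpecResidueField_apply]

include eU in
/-- generizations of a stabilizing arrow are stabilizing -/
theorem mem_range_of_specializes [LocallyOfFiniteType G.s] {g r : G.R} (hgr : g ⤳ r)
    (hr : r ∈ Set.range (q G)) : g ∈ Set.range (q G) := by
  obtain ⟨_, ⟨W, hW, rfl⟩, hrW, -⟩ := G.R.isBasis_affineOpens.exists_subset_of_mem_open (Set.mem_univ r) isOpen_univ
  obtain ⟨x, rfl⟩ : r ∈ Set.range hW.fromSpec := by rw [hW.range_fromSpec]; exact hrW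
  obtain ⟨y, rfl⟩ : g ∈ Set.range hW.fromSpec := by
    rw [hW.range_fromSpec]; exact hgr.mem_open W.2 hrW
  rw [hW.fromSpec.isOpenEmbedding.isInducing.specializes_iff] at hgr
  rw [mem_range_q eU] at hr ⊢
  obtain ⟨ρs, hρs⟩ := Spec.map_surjective (hW.fromSpec ≫ G.s ≫ eU.hom)
  obtain ⟨ρt, hρt⟩ := Spec.map_surjective (hW.fromSpec ≫ G.t ≫ eU.hom)
  let A : Type u := Γ(G.R, W)
  let πx := (Spec Γ(G.R, W)).fromSpecResidueField x
  let px : PrimeSpectrum A := x
  let py : PrimeSpectrum A := y
  obtain ⟨ex, hex⟩ := Spec.map_surjective πx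
  obtain ⟨ey, hey⟩ := Spec.map_surjective ((Spec Γ(G.R, W)).fromSpecResidueField y)
  have hker : ∀ (z : Spec Γ(G.R, W)) (e : Γ(G.R, W) ⟶ (Spec Γ(G.R, W)).residueField z),
      Spec.map e = (Spec Γ(G.R, W)).fromSpecResidueField z → ∀ a, e a = 0 ↔ a ∈ (z : PrimeSpectrum A).asIdeal := by
    intro z e he a
    have h1 := congrArg (fun φ : Spec ((Spec Γ(G.R, W)).residueField z) ⟶ Spec Γ(G.R, W) =>
      φ (IsLocalRing.closedPoint ((Spec Γ(G.R, W)).residueField z))) he
    simp only [Scheme.fromSpecResidueField_apply] at h1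
    conv_rhs => rw [← h1]
    show e a = 0 ↔ e a ∈ IsLocalRing.maximalIdeal _
    simp
  have hP : py.asIdeal ≤ px.asIdeal := (PrimeSpectrum.le_iff_specializes py px).2 hgr
  have hx : ∀ c, ρt.hom c - ρs.hom c ∈ px.asIdeal := fun c => by
    have h := congrArg (· ≫ eU.hom) hr
    simp only [Category.assoc] at h
    rw [← hρs, ← hρt, show (Spec Γ(G.R, W)).fromSpecResidueField x = Spec.map ex from hex.symm, ← Spec.map_comp, ← Spec.map_comp, Spec.map_inj] at h
    rw [← hker x ex hex, map_sub, sub_eq_zero]
    exact (congrArg (fun φ : CommRingCat.of k ⟶ _ => φ.hom c) h).symm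
  rw [← cancel_mono eU.hom]
  simp only [Category.assoc]
  rw [← hρs, ← hρt, ← hey, ← Spec.map_comp, ← Spec.map_comp]
  refine congrArg Spec.map (CommRingCat.hom_ext (RingHom.ext fun c => ?_))
  show ey (ρs.hom c) = ey (ρt.hom c)
  symm
  rw [← sub_eq_zero, ← map_sub, hker y ey hey]
  have hft : LocallyOfFiniteType (Spec.map ρs) := by rw [hρs]; infer_instance
  have hft' : ρs.hom.FiniteType := (HasRingHomProperty.Spec_iff (P := @LocallyOfFiniteType)).1 hft
  let : Algebra k A := ρs.hom.toAlgebra
  have : Algebra.FiniteType k A := hft'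
  have : (px.asIdeal.map (Ideal.Quotient.mk py.asIdeal)).IsPrime :=
    Ideal.map_isPrime_of_surjective Ideal.Quotient.mk_surjective (by rwa [Ideal.mk_ker])
  have h2 := eq_of_sub_mem ((Ideal.Quotient.mk py.asIdeal).comp ρt.hom) c
    (px.asIdeal.map (Ideal.Quotient.mk py.asIdeal)) (by
      show Ideal.Quotient.mk py.asIdeal (ρt.hom c) - Ideal.Quotient.mk py.asIdeal (ρs.hom c) ∈ _
      rw [← map_sub]
      exact Ideal.mem_map_of_mem _ (hx c))
  exact Ideal.Quotient.eq.1 h2

include eU in
theorem coheight_closed [LocallyOfFiniteType G.s] [LocallyOfFiniteType G.t] (r : G.R)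
    (hr : IsClosed ({r} : Set G.R)) :
    Order.coheight r = Order.coheight (G.e (eU.inv (IsLocalRing.closedPoint k))) := by
  let p := G.R.fromSpecResidueField r
  have : IsClosedImmersion p := IsClosedImmersion.of_isPreimmersion _ (by rw [Scheme.range_fromSpecResidueField]; exact hr)
  have hsub : Subsingleton G.U := eU.hom.homeomorph.injective.subsingleton (β := PrimeSpectrum k)
  have : JacobsonSpace G.U := JacobsonSpace.of_isOpenEmbedding eU.hom.isOpenEmbedding
  have hfin : ∀ a : Spec (G.R.residueField r) ⟶ G.U, LocallyOfFiniteType a → IsFinite a := fun a h =>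
    isFinite_iff_locallyOfFiniteType_of_jacobsonSpace.2 h
  have hkey : ∀ (a : Spec (G.R.residueField r) ⟶ G.U) [IsFinite a] (v : ↑(pullback G.s a)),
      Order.coheight (pullback.fst G.s a v) = Order.coheight v := by
    intro a _ v
    have : Flat a := by
      rw [← MorphismProperty.cancel_right_of_respectsIso (P := @Flat) a eU.hom]
      obtain ⟨ρ, hρ⟩ := Spec.map_surjective (a ≫ eU.hom)
      rw [← hρ, HasRingHomProperty.Spec_iff (P := @Flat)]
      letI : Algebra k (G.R.residueField r) := ρ.hom.toAlgebra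
      exact (inferInstance : Module.Flat k (G.R.residueField r))
    refine coheight_map_eq _ _ (fun x' _ y hy => ?_) fun a' b' => Topo.IntegralDim.fib _ a' b'
    exact Flat.generalizingMap (pullback.fst G.s a) hy
  have : IsFinite (p ≫ G.s) := hfin _ inferInstance
  have : IsFinite (p ≫ G.t) := hfin _ inferInstance
  let pt := IsLocalRing.closedPoint (G.R.residueField r)
  let P : Spec (G.R.residueField r) ⟶ pullback G.s (p ≫ G.s) := pullback.lift p (𝟙 _) (Category.id_comp _).symm
  let Q : Spec (G.R.residueField r) ⟶ pullback G.s (p ≫ G.t) :=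
    pullback.lift ((p ≫ G.t) ≫ G.e) (𝟙 _) (by simp)
  let φ := fibreIso G p (p ≫ G.t) (p ≫ G.s) rfl rfl
  have e : Q ≫ φ.hom = P := by
    apply pullback.hom_ext
    · simp only [φ, fibreIso, fibreHom, Category.assoc, pullback.lift_fst, comp_pre, P]
      refine (comp_congr _ (show Q ≫ pullback.fst _ _ = p ≫ G.t ≫ G.e by simp [Q]) (by simp [Q])).trans (G.e_comp p)
    · simp [φ, fibreIso, fibreHom, P, Q]
  have hPr : pullback.fst G.s (p ≫ G.s) (P pt) = r := by
    rw [← Scheme.Hom.comp_apply, pullback.lift_fst]; exact Scheme.fromSpecResidueField_apply r pt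
  have hQe : pullback.fst G.s (p ≫ G.t) (Q pt) = G.e (eU.inv (IsLocalRing.closedPoint k)) := by
    rw [← Scheme.Hom.comp_apply, pullback.lift_fst, Scheme.Hom.comp_apply]
    exact congrArg G.e (Subsingleton.elim _ _)
  rw [← hPr, ← hQe, hkey, hkey, ← e, Scheme.Hom.comp_apply]
  exact coheight_eq_of_isOpenImmersion φ.hom

include eU in
theorem dim_eq [LocallyOfFiniteType G.s] [LocallyOfFiniteType G.t] :
    topologicalKrullDim G.R = Order.coheight (G.e (eU.inv (IsLocalRing.closedPoint k))) := by
  have : JacobsonSpace G.U := JacobsonSpace.of_isOpenEmbedding eU.hom.isOpenEmbedding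
  have : JacobsonSpace G.R := LocallyOfFiniteType.jacobsonSpace G.s
  rw [topologicalKrullDim_eq]
  refine le_antisymm (iSup_le fun x => ?_) (le_iSup (fun x : G.R => (Order.coheight x : WithBot ℕ∞)) _)
  obtain ⟨c, hc, hcc⟩ := nonempty_inter_closedPoints (Z := closure {x}) ⟨x, subset_closure rfl⟩
    isClosed_closure.isLocallyClosed
  rw [← coheight_closed eU c hcc]
  exact WithBot.coe_le_coe.2 (Order.coheight_anti (show c ≤ x from specializes_iff_mem_closure.2 hc))

include eU in
theorem dim_eq_stabilizer [LocallyOfFiniteType G.s] [LocallyOfFiniteType G.t] :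
    topologicalKrullDim G.R = topologicalKrullDim G.stabilizer := by
  have := isPreimmersion_q (G := G)
  refine le_antisymm ?_ (q G).isEmbedding.isInducing.topologicalKrullDim_le
  rw [dim_eq eU, topologicalKrullDim_eq G.stabilizer]
  let z := G.eStab (eU.inv (IsLocalRing.closedPoint k))
  have hz : q G z = G.e (eU.inv (IsLocalRing.closedPoint k)) := by
    rw [← Scheme.Hom.comp_apply, show G.eStab ≫ q G = G.e from pullback.lift_fst _ _ _]
  rw [← hz, coheight_map_eq (q G) z (fun x' _ y hy => ?_) fun a b _ h => ((q G).isEmbedding.injective h).symm ▸ specializes_rfl]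
  · exact le_iSup (fun x : G.stabilizer => (Order.coheight x : WithBot ℕ∞)) z
  · obtain ⟨w, rfl⟩ := mem_range_of_specializes eU hy ⟨x', rfl⟩
    exact ⟨w, (q G).isEmbedding.isInducing.specializes_iff.1 hy, rfl⟩

end Groth.Agent.Grpd6.Dim

end
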