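import Groth.Agent.Grpd6.BasisCore
import Mathlib.RingTheory.Flat.LocallyFree
import Mathlib.RingTheory.IntegralClosure.IsIntegralClosure.Basic
import Mathlib.RingTheory.Ideal.GoingUp
import Mathlib.RingTheory.Finiteness.Descent
import Mathlib.RingTheory.Finiteness.ModuleFinitePresentation
import Mathlib.RingTheory.Flat.Rank
import Mathlib.Algebra.Category.Ring.Constructions
import Mathlib.LinearAlgebra.Matrix.Adjugate

/-!
The algebra behind the quotient by a finite flat equivalence relation of affine schemes.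
-/

universe u

open CategoryTheory TensorProduct

set_option linter.style.haveILetI false
set_option backward.isDefEq.respectTransparency.types false

noncomputable section

namespace Groth.Agent.Grpd6.FlatQuotCore

variable {C : Type u} [CommRing C]

/-- base change of an algebra map -/
abbrev bc (C' : Type u) [CommRing C'] [Algebra C C'] {X Y : Type u} [CommRing X] [CommRing Y] [Algebra C X]
    [Algebra C Y] (f : X →ₐ[C] Y) : C' ⊗[C] X →ₐ[C'] C' ⊗[C] Y :=
  Algebra.TensorProduct.map (AlgHom.id C' C') f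

/-- a morphism of rings from an algebra map -/
abbrev hom {X Y : Type u} [CommRing X] [CommRing Y] [Algebra C X] [Algebra C Y] (f : X →ₐ[C] Y) :
    CommRingCat.of X ⟶ CommRingCat.of Y := CommRingCat.ofHom f.toRingHom

variable (C' : Type u) [CommRing C'] [Algebra C C']

/-- the inclusion of the right factor -/
abbrev inc (X : Type u) [CommRing X] [Algebra C X] : CommRingCat.of X ⟶ CommRingCat.of (C' ⊗[C] X) :=
  CommRingCat.ofHom (Algebra.TensorProduct.includeRight (R := C) (A := C') (B := X)).toRingHom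

theorem square {X Y : Type u} [CommRing X] [CommRing Y] [Algebra C X] [Algebra C Y] (f : X →ₐ[C] Y) :
    IsPushout (hom f) (inc C' X) (inc C' Y) (hom (bc C' f)) := by
  have hX := (CommRingCat.isPushout_tensorProduct C C' X).flip
  have hY := (CommRingCat.isPushout_tensorProduct C C' Y).flip
  refine IsPushout.of_left ?_ ?_ hX
  · convert hY using 1
    · ext c; exact f.commutes c
    · ext c
      show Algebra.TensorProduct.map (AlgHom.id C' C') f (c ⊗ₜ[C] 1) = c ⊗ₜ[C] 1
      simp
  · ext x
    show (1 : C') ⊗ₜ[C] f x = Algebra.TensorProduct.map (AlgHom.id C' C') f ((1 : C') ⊗ₜ[C] x)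
    simp

theorem isPushout_bc {X Y Z W : Type u} [CommRing X] [CommRing Y] [CommRing Z] [CommRing W] [Algebra C X]
    [Algebra C Y] [Algebra C Z] [Algebra C W] (f : X →ₐ[C] Y) (g : X →ₐ[C] Z) (h : Y →ₐ[C] W) (k : Z →ₐ[C] W)
    (P : IsPushout (hom f) (hom g) (hom h) (hom k)) :
    IsPushout (hom (bc C' f)) (hom (bc C' g)) (hom (bc C' h)) (hom (bc C' k)) := by
  have hw : ∀ x, h (f x) = k (g x) := fun x => congrArg (fun m : CommRingCat.of X ⟶ CommRingCat.of W => m.hom x) P.w
  refine IsPushout.of_top ?_ ?_ (square C' f)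
  · convert P.paste_vert (square C' k) using 1
    · ext x
      show bc C' g ((1 : C') ⊗ₜ[C] x) = (1 : C') ⊗ₜ[C] g x
      simp
    · ext y
      show bc C' h ((1 : C') ⊗ₜ[C] y) = (1 : C') ⊗ₜ[C] h y
      simp
  · refine CommRingCat.hom_ext (RingHom.ext fun z => ?_)
    show bc C' h (bc C' f z) = bc C' k (bc C' g z)
    induction z using TensorProduct.induction_on with
    | zero => simp
    | add a b ha hb => simp [ha, hb]
    | tmul c x => simp [hw]

variable {A B : Type u} [CommRing A] [CommRing B] [Algebra C A] [Algebra C B]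

theorem bc_injective [Module.Flat C C'] (hinj : Function.Injective (algebraMap C A)) :
    Function.Injective (algebraMap C' (C' ⊗[C] A)) := by
  have h := Module.Flat.lTensor_preserves_injective_linearMap (M := C') (Algebra.linearMap C A) hinj
  intro c d e
  have e' : (Algebra.linearMap C A).lTensor C' (c ⊗ₜ 1) = (Algebra.linearMap C A).lTensor C' (d ⊗ₜ 1) := by
    simpa using e
  exact (TensorProduct.rid C C').symm.injective (h e')

theorem bc_invariants [Module.Flat C C'] (σ τ : A →ₐ[C] B)
    (hker : ∀ a, σ a = τ a → a ∈ Set.range (algebraMap C A)) (z : C' ⊗[C] A) :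
    z ∈ Set.range (algebraMap C' (C' ⊗[C] A)) ↔ bc C' σ z = bc C' τ z := by
  refine ⟨?_, fun h => ?_⟩
  · rintro ⟨c, rfl⟩
    rw [AlgHom.commutes, AlgHom.commutes]
  · let D : A →ₗ[C] B := σ.toLinearMap - τ.toLinearMap
    have ex : Function.Exact (Algebra.linearMap C A) D := fun a => by
      refine ⟨fun ha => hker a (sub_eq_zero.1 ha), ?_⟩
      rintro ⟨c, rfl⟩
      simp [D]
    have hD : ∀ z, D.lTensor C' z = bc C' σ z - bc C' τ z := by
      intro z
      induction z using TensorProduct.induction_on with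
      | zero => simp
      | add a b ha hb => simp only [map_add, ha, hb]; abel
      | tmul c a => simp [D, TensorProduct.tmul_sub]
    obtain ⟨y, hy⟩ := (Module.Flat.lTensor_exact C' ex z).1 ((hD z).trans (sub_eq_zero.2 h))
    refine ⟨TensorProduct.rid C C' y, ?_⟩
    rw [← hy]
    conv_rhs => rw [← (TensorProduct.rid C C').symm_apply_apply y, TensorProduct.rid_symm_apply]
    simp

variable {B₂ : Type u} [CommRing B₂] [Algebra C B₂]
  (σ τ : A →ₐ[C] B) (π c p : B →ₐ[C] B₂) (ε : B →ₐ[C] A)

theorem basis_bc [Module.Flat C C'] (h₁ : IsPushout (hom σ) (hom σ) (hom π) (hom c))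
    (h₂ : IsPushout (hom τ) (hom σ) (hom π) (hom p)) (hτ : ∀ a, c (τ a) = p (τ a))
    (hεσ : ∀ a, ε (σ a) = a) (hετ : ∀ a, ε (τ a) = a) (hinj : Function.Injective (algebraMap C A))
    (hker : ∀ a, σ a = τ a → a ∈ Set.range (algebraMap C A)) {I : Type u} (x : I → C' ⊗[C] A)
    (hB : letI := (bc C' σ).toRingHom.toAlgebra
      ∃ b : Module.Basis I (C' ⊗[C] A) (C' ⊗[C] B), ∀ i, b i = bc C' τ (x i)) :
    ∃ b : Module.Basis I C' (C' ⊗[C] A), ∀ i, b i = x i := by
  refine BasisCore.exists_basis (hom (bc C' σ)) (hom (bc C' τ)) (hom (bc C' π)) (hom (bc C' c)) (hom (bc C' p))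
    (hom (bc C' ε)) (isPushout_bc C' σ σ π c h₁) (isPushout_bc C' τ σ π p h₂) ?_ ?_ ?_ (C := C')
    (bc_injective C' hinj) (bc_invariants C' σ τ hker) x hB
  all_goals refine CommRingCat.hom_ext (RingHom.ext fun z => ?_)
  · show bc C' c (bc C' τ z) = bc C' p (bc C' τ z)
    induction z using TensorProduct.induction_on with
    | zero => simp
    | add a b ha hb => simp [ha, hb]
    | tmul d a => simp [hτ]
  · show bc C' ε (bc C' σ z) = z
    induction z using TensorProduct.induction_on with
    | zero => simp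
    | add a b ha hb => simp only [map_add, ha, hb]
    | tmul d a => simp [hεσ]
  · show bc C' ε (bc C' τ z) = z
    induction z using TensorProduct.induction_on with
    | zero => simp
    | add a b ha hb => simp only [map_add, ha, hb]
    | tmul d a => simp [hετ]

/-- the coefficient relations at a prime -/
theorem exists_relations [Algebra A B] [Module.Finite A B] [Module.Projective A B] {N : ℕ} (v : Fin N → B)
    (hv : Submodule.span A (Set.range v) = ⊤) (q : Ideal A) [q.IsPrime] (n : ℕ)
    (hn : Module.rankAtStalk (R := A) B ⟨q, inferInstance⟩ = n) :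
    ∃ (l : Fin n → Fin N) (s : A) (μ : Fin N → Fin n → A),
      Function.Injective l ∧ s ∉ q ∧ (∀ i, s • v i = ∑ k, μ i k • v (l k)) ∧
        ∀ j k, μ (l j) k = if j = k then s else 0 := by
  classical
  let Aq := Localization.AtPrime q
  let f := LocalizedModule.mkLinearMap q.primeCompl B
  have : Module.FinitePresentation A B := Module.finitePresentation_of_projective _ _
  have hsp : Submodule.span Aq (Set.range (f ∘ v ∘ (ULift.down : ULift.{u} (Fin N) → Fin N))) = ⊤ := by
    rw [← span_eq_top_of_isLocalizedModule Aq q.primeCompl f hv, ← Set.range_comp]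
    refine congrArg _ (Set.ext fun z => ⟨?_, ?_⟩)
    · rintro ⟨i, rfl⟩; exact ⟨i.down, rfl⟩
    · rintro ⟨i, rfl⟩; exact ⟨⟨i⟩, rfl⟩
  obtain ⟨κ, a, b, hb⟩ := Module.exists_basis_of_span_of_flat _ hsp
  have hκ : Finite κ := Module.Finite.finite_basis b
  letI := Fintype.ofFinite κ
  have hc : Fintype.card κ = n := by
    rw [← hn, Module.rankAtStalk, Module.finrank_eq_card_basis b]
  let e : Fin n ≃ κ := (Fintype.equivFinOfCardEq hc).symm
  let l : Fin n → Fin N := fun k => (a (e k)).down
  have hl : Function.Injective l := fun j k h => e.injective (b.injective (by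
    rw [hb, hb]; exact congrArg (fun i => f (v i)) h))
  have key : ∀ i, ∃ s : q.primeCompl, (s : A) • v i ∈ Submodule.span A (Set.range (v ∘ l)) := by
    intro i
    have h2 : f (v i) ∈ (Submodule.span A (Set.range (v ∘ l))).localized' Aq q.primeCompl f := by
      rw [Submodule.localized'_span, ← Set.range_comp]
      have : Set.range (⇑f ∘ v ∘ l) = Set.range b := by
        ext z
        refine ⟨?_, ?_⟩
        · rintro ⟨k, rfl⟩; exact ⟨e k, hb _⟩
        · rintro ⟨k, rfl⟩; exact ⟨e.symm k, by simp [l, hb]⟩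
      rw [this, b.span_eq]
      trivial
    obtain ⟨m, hm, s, hms⟩ := h2
    rw [IsLocalizedModule.mk'_eq_iff, ← f.map_smul_of_tower] at hms
    obtain ⟨d, hd⟩ := IsLocalizedModule.exists_of_eq (S := q.primeCompl) hms
    refine ⟨d * s, ?_⟩
    rw [Submonoid.coe_mul, mul_smul]
    simp only [Submonoid.smul_def] at hd
    rw [← hd]
    exact Submodule.smul_mem _ _ hm
  choose s hs using key
  let S : A := ∏ i, (s i : A)
  have hS : S ∉ q := fun h => by
    obtain ⟨i, -, hi⟩ := Ideal.IsPrime.prod_mem_iff.1 h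
    exact (s i).2 hi
  have key' : ∀ i, ∃ μ : Fin n → A, ∑ k, μ k • v (l k) = S • v i := by
    intro i
    refine (Submodule.mem_span_range_iff_exists_fun A (v := v ∘ l)).1 ?_
    rw [show S = (∏ j ∈ Finset.univ.erase i, (s j : A)) * s i from (Finset.prod_erase_mul _ _ (Finset.mem_univ i)).symm, mul_smul]
    exact Submodule.smul_mem _ _ (hs i)
  choose μ hμ using key'
  refine ⟨l, S, fun i k => if h : ∃ j, l j = i then (if h.choose = k then S else 0) else μ i k, hl, hS, ?_, ?_⟩
  · intro i
    by_cases h : ∃ j, l j = i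
    · simp only [dif_pos h, ite_smul, zero_smul, Finset.sum_ite_eq, Finset.mem_univ, if_true, h.choose_spec]
    · simp only [dif_neg h]; exact (hμ i).symm
  · intro j k
    have h : ∃ j', l j' = l j := ⟨j, rfl⟩
    simp only [dif_pos h, hl h.choose_spec]

/-- a prime of a polynomial ring attached to a prime of the base -/
abbrev primeExt (T : Type) {R : Type u} [CommRing R] (q : Ideal R) : Ideal (MvPolynomial T R) :=
  RingHom.ker (MvPolynomial.map (σ := T) (Ideal.Quotient.mk q))

theorem mem_primeExt {T : Type} {R : Type u} [CommRing R] (q : Ideal R) (f : MvPolynomial T R) :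
    f ∈ primeExt T q ↔ ∀ d, f.coeff d ∈ q := by
  rw [RingHom.mem_ker, MvPolynomial.ext_iff]
  simp [MvPolynomial.coeff_map, Ideal.Quotient.eq_zero_iff_mem]

attribute [local instance] MvPolynomial.algebraMvPolynomial in
theorem eq_primeExt [Algebra.IsIntegral C A] {T : Type} (q : Ideal A) [q.IsPrime] (Q₀ : Ideal (MvPolynomial T A))
    (hq : ∀ a ∈ q, MvPolynomial.C a ∈ Q₀)
    (hQ : Q₀.comap (MvPolynomial.map (σ := T) (algebraMap C A)) ≤ primeExt T (q.comap (algebraMap C A))) :
    Q₀ ≤ primeExt T q := by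
  have : (primeExt T q).IsPrime := RingHom.ker_isPrime _
  have hle : primeExt T q ≤ Q₀ := fun f hf => by
    have h1 : Ideal.map (MvPolynomial.C (σ := T)) q ≤ Q₀ := Ideal.map_le_iff_le_comap.2 hq
    exact h1 (MvPolynomial.mem_map_C_iff.2 ((mem_primeExt q f).1 hf))
  intro x hx
  by_contra hx'
  have := Ideal.comap_lt_comap_of_integral_mem_sdiff (R := MvPolynomial T C) hle ⟨hx, hx'⟩
    (Algebra.IsIntegral.isIntegral x)
  refine not_lt_of_ge (fun g hg => ?_) this
  rw [Ideal.mem_comap, mem_primeExt]
  intro d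
  have := (mem_primeExt _ g).1 (hQ (by simpa using hg)) d
  simpa [Ideal.mem_comap, MvPolynomial.coeff_map] using this

theorem det_eval {n N : ℕ} (l : Fin n → Fin N) (s : A) (μ : Fin N → Fin n → A)
    (hμ : ∀ j k, μ (l j) k = if j = k then s else 0) :
    MvPolynomial.eval (fun t : Fin n × Fin N => if l t.1 = t.2 then (1 : A) else 0)
      (Matrix.of fun j k => ∑ i, MvPolynomial.X (R := A) (j, i) * MvPolynomial.C (μ i k)).det = s ^ n := by
  classical
  rw [RingHom.map_det]
  have : (MvPolynomial.eval (fun t : Fin n × Fin N => if l t.1 = t.2 then (1 : A) else 0)).mapMatrix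
      (Matrix.of fun j k => ∑ i, MvPolynomial.X (R := A) (j, i) * MvPolynomial.C (μ i k)) =
      Matrix.diagonal fun _ => s := by
    ext j k
    simp [Matrix.diagonal_apply, hμ]
  rw [this, Matrix.det_diagonal, Finset.prod_const, Finset.card_univ, Fintype.card_fin]

theorem det_notMem [Algebra.IsIntegral C A] {n N : ℕ} (l : Fin n → Fin N) (s : A) (μ : Fin N → Fin n → A)
    (hμ : ∀ j k, μ (l j) k = if j = k then s else 0) (q : Ideal A) [q.IsPrime] (hs : s ∉ q)
    (Q₀ : Ideal (MvPolynomial (Fin n × Fin N) A)) (hq : ∀ a ∈ q, MvPolynomial.C a ∈ Q₀)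
    (hQ : Q₀.comap (MvPolynomial.map (algebraMap C A)) ≤ primeExt _ (q.comap (algebraMap C A))) :
    (Matrix.of fun j k => ∑ i, MvPolynomial.X (R := A) (j, i) * MvPolynomial.C (μ i k)).det ∉ Q₀ := by
  intro h
  have h' := eq_primeExt q Q₀ hq hQ h
  refine hs (‹q.IsPrime›.mem_of_pow_mem n ?_)
  rw [← det_eval l s μ hμ, MvPolynomial.eval_eq]
  exact Ideal.sum_mem _ fun d _ => Ideal.mul_mem_right _ _ ((mem_primeExt q _).1 h' d)

theorem mem_span_of_relations {R M : Type u} [CommRing R] [AddCommGroup M] [Module R M] {n : ℕ}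
    (y z : Fin n → M) (P : Submodule R M) (hy : ∀ j, y j ∈ P) (s : R) (X : Matrix (Fin n) (Fin n) R)
    (h : ∀ j, s • y j = ∑ k, X j k • z k) (k : Fin n) : X.det • z k ∈ P := by
  classical
  have e : ∑ j, X.adjugate k j • (s • y j) = X.det • z k := by
    simp only [h, Finset.smul_sum, smul_smul]
    rw [Finset.sum_comm]
    simp only [← Finset.sum_smul, ← Matrix.mul_apply, Matrix.adjugate_mul, Matrix.smul_apply, Matrix.one_apply,
      smul_eq_mul, mul_ite, mul_one, mul_zero, ite_smul, zero_smul, Finset.sum_ite_eq, Finset.mem_univ, if_true]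
  rw [← e]
  exact Submodule.sum_mem _ fun j _ => Submodule.smul_mem _ _ (Submodule.smul_mem _ _ (hy j))

end Groth.Agent.Grpd6.FlatQuotCore

end
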