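import Groth.Agent.Grpd6.FlatQuotCore

/-!
The ring theoretic quotient theorem for finite flat equivalence relations.
-/

universe u

open CategoryTheory TensorProduct

set_option linter.style.haveILetI false
set_option backward.isDefEq.respectTransparency.types false

noncomputable section

namespace Groth.Agent.Grpd6.FlatQuotGlobal

open FlatQuotCore

variable {C : Type u} [CommRing C] {A B B₂ : Type u} [CommRing A] [CommRing B] [CommRing B₂]
  [Algebra C A] [Algebra C B] [Algebra C B₂]
  (σ τ : A →ₐ[C] B) (π c p : B →ₐ[C] B₂) (ε : B →ₐ[C] A)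

/-- the hypotheses -/
structure Hyp {N : ℕ} (a : Fin N → A) : Prop where
  h₁ : IsPushout (hom σ) (hom σ) (hom π) (hom c)
  h₂ : IsPushout (hom τ) (hom σ) (hom π) (hom p)
  hτ : ∀ a, c (τ a) = p (τ a)
  hεσ : ∀ a, ε (σ a) = a
  hετ : ∀ a, ε (τ a) = a
  inj : Function.Injective (algebraMap C A)
  inv : ∀ a, σ a = τ a → a ∈ Set.range (algebraMap C A)
  integral : Algebra.IsIntegral C A
  finite : σ.toRingHom.Finite
  flat : σ.toRingHom.Flat
  fp : σ.toRingHom.FinitePresentation
  span : letI := σ.toRingHom.toAlgebra; Submodule.span A (Set.range (τ ∘ a)) = ⊤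
  rank : ∀ P : Ideal C, P.IsPrime → ∃ n, ∀ (q : Ideal A) [q.IsPrime], q.comap (algebraMap C A) = P →
    σ.toRingHom.finrank ⟨q, inferInstance⟩ = n

variable {σ τ π c p ε} {N : ℕ} {a : Fin N → A}

theorem span_bc (H : Hyp σ τ π c p ε a) (C' : Type u) [CommRing C'] [Algebra C C'] :
    letI := (bc C' σ).toRingHom.toAlgebra
    Submodule.span (C' ⊗[C] A) (Set.range fun i => (1 : C') ⊗ₜ[C] τ (a i)) = ⊤ := by
  letI : Algebra A B := σ.toRingHom.toAlgebra
  letI : Algebra (C' ⊗[C] A) (C' ⊗[C] B) := (bc C' σ).toRingHom.toAlgebra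
  refine eq_top_iff.2 fun z _ => ?_
  induction z using TensorProduct.induction_on with
  | zero => exact zero_mem _
  | add x y hx hy => exact add_mem (hx trivial) (hy trivial)
  | tmul d b =>
    obtain ⟨μ, hμ⟩ := (Submodule.mem_span_range_iff_exists_fun A).1 (H.span ▸ Submodule.mem_top (x := b))
    rw [← hμ, TensorProduct.tmul_sum]
    refine Submodule.sum_mem _ fun i _ => ?_
    have : d ⊗ₜ[C] (μ i • (τ ∘ a) i) = (d ⊗ₜ[C] μ i : C' ⊗[C] A) • ((1 : C') ⊗ₜ[C] τ (a i) : C' ⊗[C] B) := by
      rw [Algebra.smul_def, Algebra.smul_def]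
      show _ = bc C' σ (d ⊗ₜ[C] μ i) * _
      simp [RingHom.algebraMap_toAlgebra]
    rw [this]
    exact Submodule.smul_mem _ _ (Submodule.subset_span ⟨i, rfl⟩)

theorem algebraMap_tmul (C' : Type u) [CommRing C'] [Algebra C C'] (r : C) :
    (1 : C') ⊗ₜ[C] algebraMap C A r = algebraMap C' (C' ⊗[C] A) (algebraMap C C' r) := by
  rw [← IsScalarTower.algebraMap_apply, Algebra.algebraMap_eq_smul_one,
    TensorProduct.tmul_smul, Algebra.algebraMap_eq_smul_one, Algebra.TensorProduct.one_def]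

theorem comap_comap_inc (C' : Type u) [CommRing C'] [Algebra C C'] (Q : Ideal (C' ⊗[C] A)) :
    (Q.comap (Algebra.TensorProduct.includeRight (R := C) (A := C') (B := A)).toRingHom).comap (algebraMap C A) =
      (Q.comap (algebraMap C' (C' ⊗[C] A))).comap (algebraMap C C') := by
  rw [Ideal.comap_comap, Ideal.comap_comap]
  congr 1
  exact RingHom.ext fun r => algebraMap_tmul C' r

theorem flat_bc (H : Hyp σ τ π c p ε a) (C' : Type u) [CommRing C'] [Algebra C C'] :
    letI := (bc C' σ).toRingHom.toAlgebra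
    Module.Flat (C' ⊗[C] A) (C' ⊗[C] B) := by
  letI : Algebra A B := σ.toRingHom.toAlgebra
  haveI : Module.Flat A B := H.flat
  letI : Algebra (C' ⊗[C] A) (C' ⊗[C] B) := (bc C' σ).toRingHom.toAlgebra
  have hsq := square C' σ
  letI : Algebra A (C' ⊗[C] A) := (Algebra.TensorProduct.includeRight (R := C) (A := C') (B := A)).toRingHom.toAlgebra
  letI : Algebra B (C' ⊗[C] B) := (Algebra.TensorProduct.includeRight (R := C) (A := C') (B := B)).toRingHom.toAlgebra
  letI : Algebra A (C' ⊗[C] B) := ((bc C' σ).toRingHom.comp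
    (Algebra.TensorProduct.includeRight (R := C) (A := C') (B := A)).toRingHom).toAlgebra
  haveI : IsScalarTower A (C' ⊗[C] A) (C' ⊗[C] B) := IsScalarTower.of_algebraMap_eq' rfl
  haveI : IsScalarTower A B (C' ⊗[C] B) := IsScalarTower.of_algebraMap_eq' (congrArg CommRingCat.Hom.hom hsq.w).symm
  haveI : Algebra.IsPushout A (C' ⊗[C] A) B (C' ⊗[C] B) := CommRingCat.isPushout_iff_isPushout.mp hsq.flip
  exact Module.Flat.of_linearEquiv (Algebra.IsPushout.equiv A (C' ⊗[C] A) B (C' ⊗[C] B)).symm.toLinearEquiv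

theorem exists_inverse (H : Hyp σ τ π c p ε a) (P : Ideal C) (n : ℕ)
    (hn : ∀ (q : Ideal A) [q.IsPrime], q.comap (algebraMap C A) = P → σ.toRingHom.finrank ⟨q, inferInstance⟩ = n)
    (C' : Type u) [CommRing C'] [Algebra C C'] [IsLocalRing C']
    (θ : MvPolynomial (Fin n × Fin N) C →+* C') (hθ : θ.comp MvPolynomial.C = algebraMap C C')
    (hm : (IsLocalRing.maximalIdeal C').comap θ = primeExt (Fin n × Fin N) P)
    (hmC : (IsLocalRing.maximalIdeal C').comap (algebraMap C C') = P)
    (x : Fin n → C' ⊗[C] A) (hx : ∀ j, x j = ∑ i, θ (MvPolynomial.X (j, i)) ⊗ₜ[C] a i)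
    (Q : Ideal (C' ⊗[C] A)) (hQ : Q.IsMaximal) :
    letI := (bc C' σ).toRingHom.toAlgebra
    ∃ r ∉ Q, ∀ z : C' ⊗[C] B, r • z ∈ Submodule.span (C' ⊗[C] A) (Set.range fun j => bc C' τ (x j)) := by
  classical
  haveI := H.integral
  letI : Algebra A B := σ.toRingHom.toAlgebra
  haveI : Module.Finite A B := H.finite
  haveI : Module.Flat A B := H.flat
  haveI : Algebra.FinitePresentation A B := H.fp
  haveI : Module.FinitePresentation A B := Module.FinitePresentation.of_finite_of_finitePresentation A B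
  haveI : Module.Projective A B := Module.Flat.projective_of_finitePresentation
  letI : Algebra (C' ⊗[C] A) (C' ⊗[C] B) := (bc C' σ).toRingHom.toAlgebra
  have hspan := span_bc H C'
  haveI : Algebra.IsIntegral C' (C' ⊗[C] A) := inferInstance
  have hQm : (Q.comap (algebraMap C' (C' ⊗[C] A))).IsMaximal := Ideal.isMaximal_comap_of_isIntegral_of_isMaximal Q
  have hQC := IsLocalRing.eq_maximalIdeal hQm
  let incA := (Algebra.TensorProduct.includeRight (R := C) (A := C') (B := A)).toRingHom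
  let q : Ideal A := Q.comap incA
  have hqp : q.comap (algebraMap C A) = P := by rw [comap_comap_inc, hQC, hmC]
  obtain ⟨l, s, μ, -, hs, hrel, hμ⟩ := exists_relations (τ ∘ a) H.span q n (hn q hqp)
  let M : Matrix (Fin n) (Fin n) (MvPolynomial (Fin n × Fin N) A) := (Matrix.of fun j k => ∑ i, MvPolynomial.X (R := A) (j, i) * MvPolynomial.C (μ i k))
  let ψ : MvPolynomial (Fin n × Fin N) A →+* C' ⊗[C] A :=
    MvPolynomial.eval₂Hom incA (fun z => θ (MvPolynomial.X z) ⊗ₜ[C] 1)
  have hψR : ψ.comp (MvPolynomial.map (algebraMap C A)) = (algebraMap C' (C' ⊗[C] A)).comp θ := by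
    refine MvPolynomial.ringHom_ext (fun r => ?_) (fun z => ?_)
    · simp only [RingHom.comp_apply, MvPolynomial.map_C, ψ, MvPolynomial.eval₂Hom_C]
      rw [show θ (MvPolynomial.C r) = algebraMap C C' r from RingHom.congr_fun hθ r]
      exact algebraMap_tmul C' r
    · simp [ψ]
  have hD : M.det ∉ Q.comap ψ := by
    refine det_notMem (C := C) l s μ hμ q hs _ (fun r hr => ?_) ?_
    · show ψ (MvPolynomial.C r) ∈ Q
      simp only [ψ, MvPolynomial.eval₂Hom_C]
      exact hr
    · rw [Ideal.comap_comap, hψR, ← Ideal.comap_comap, hQC, hm, hqp]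
  refine ⟨ψ M.det * incA s, ?_, ?_⟩
  · intro h
    rcases hQ.isPrime.mem_or_mem h with h | h
    · exact hD h
    · exact hs h
  let z' : Fin N → C' ⊗[C] B := fun i => (1 : C') ⊗ₜ[C] τ (a i)
  have hs' : ∀ i, incA s • z' i = ∑ k, incA (μ i k) • z' (l k) := by
    intro i
    have := congrArg (fun b : B => (1 : C') ⊗ₜ[C] b) (hrel i)
    simp only [TensorProduct.tmul_sum, Algebra.smul_def, RingHom.algebraMap_toAlgebra] at this ⊢
    simpa [incA, z'] using this
  have hy : ∀ j, incA s • bc C' τ (x j) = ∑ k, M.map ψ j k • z' (l k) := by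
    intro j
    have e : bc C' τ (x j) = ∑ i, (θ (MvPolynomial.X (j, i)) ⊗ₜ[C] (1 : A) : C' ⊗[C] A) • z' i := by
      simp [hx, z', Algebra.smul_def, RingHom.algebraMap_toAlgebra]
    simp only [e, Finset.smul_sum, smul_comm (incA s), hs']
    rw [Finset.sum_comm]
    refine Finset.sum_congr rfl fun k _ => ?_
    simp only [smul_smul, ← Finset.sum_smul]
    congr 1
    simp [M, ψ, incA]
  intro z
  refine Submodule.span_induction (p := fun u _ => (ψ M.det * incA s) • u ∈
    Submodule.span (C' ⊗[C] A) (Set.range fun j => bc C' τ (x j))) ?_ (by simp)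
    (fun u v _ _ hu hv => by rw [smul_add]; exact add_mem hu hv)
    (fun r u _ hu => by rw [smul_comm]; exact Submodule.smul_mem _ _ hu) (hspan ▸ Submodule.mem_top (x := z))
  rintro _ ⟨i, rfl⟩
  show (ψ M.det * incA s) • z' i ∈ _
  rw [mul_smul, hs', Finset.smul_sum]
  refine Submodule.sum_mem _ fun k _ => ?_
  rw [smul_comm]
  refine Submodule.smul_mem _ _ ?_
  rw [RingHom.map_det]
  refine mem_span_of_relations (fun j => bc C' τ (x j)) (fun k => z' (l k)) _ ?_ (incA s) _ hy k
  exact fun j => Submodule.subset_span ⟨j, rfl⟩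

theorem exists_basis_bB (H : Hyp σ τ π c p ε a) (P : Ideal C) (n : ℕ)
    (hn : ∀ (q : Ideal A) [q.IsPrime], q.comap (algebraMap C A) = P → σ.toRingHom.finrank ⟨q, inferInstance⟩ = n)
    (C' : Type u) [CommRing C'] [Algebra C C'] [IsLocalRing C']
    (θ : MvPolynomial (Fin n × Fin N) C →+* C') (hθ : θ.comp MvPolynomial.C = algebraMap C C')
    (hm : (IsLocalRing.maximalIdeal C').comap θ = primeExt (Fin n × Fin N) P)
    (hmC : (IsLocalRing.maximalIdeal C').comap (algebraMap C C') = P)
    (x : Fin n → C' ⊗[C] A) (hx : ∀ j, x j = ∑ i, θ (MvPolynomial.X (j, i)) ⊗ₜ[C] a i) :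
    letI := (bc C' σ).toRingHom.toAlgebra
    ∃ b : Module.Basis (ULift.{u} (Fin n)) (C' ⊗[C] A) (C' ⊗[C] B), ∀ j, b j = bc C' τ (x j.down) := by
  classical
  haveI := H.integral
  letI : Algebra (C' ⊗[C] A) (C' ⊗[C] B) := (bc C' σ).toRingHom.toAlgebra
  haveI : Module.Finite (C' ⊗[C] A) (C' ⊗[C] B) := ⟨Submodule.fg_def.2 ⟨_, Set.finite_range _, span_bc H C'⟩⟩
  haveI : Module.Flat (C' ⊗[C] A) (C' ⊗[C] B) := flat_bc H C'
  let y : Fin n → C' ⊗[C] B := fun j => bc C' τ (x j)
  have htop : Submodule.span (C' ⊗[C] A) (Set.range y) = ⊤ := by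
    refine eq_top_iff.2 fun z _ => ?_
    let I := (Submodule.span (C' ⊗[C] A) (Set.range y)).colon {z}
    have hI : I = ⊤ := by
      by_contra hne
      obtain ⟨Q, hQ, hle⟩ := Ideal.exists_le_maximal I hne
      obtain ⟨r, hr, hrz⟩ := exists_inverse H P n hn C' θ hθ hm hmC x hx Q hQ
      exact hr (hle (Submodule.mem_colon_singleton.2 (hrz z)))
    have := Submodule.mem_colon_singleton.1 (show (1 : C' ⊗[C] A) ∈ I from hI ▸ Submodule.mem_top)
    simpa using this
  let Φ : (Fin n → C' ⊗[C] A) →ₗ[C' ⊗[C] A] C' ⊗[C] B := Fintype.linearCombination (C' ⊗[C] A) y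
  have hs : Function.Surjective Φ := by
    rw [← LinearMap.range_eq_top, Fintype.range_linearCombination, htop]
  have hbij : Function.Bijective Φ := by
    refine Module.bijective_of_surjective_of_rankAtStalk_eq hs fun Q hQ => ?_
    haveI : Nontrivial (C' ⊗[C] A) := ⟨⟨0, 1, fun h => hQ.ne_top ((Ideal.eq_top_iff_one _).2 (h ▸ zero_mem _))⟩⟩
    rw [Module.rankAtStalk_eq_finrank_of_free, Pi.natCast_def, Module.finrank_fin_fun]
    have h := CommRingCat.finrank_eq_of_isPushout (square C' σ) H.flat H.finite ⟨Q, hQ.isPrime⟩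
    refine Eq.trans ?_ h.symm
    refine (hn _ ?_).symm
    have hQm : (Q.comap (algebraMap C' (C' ⊗[C] A))).IsMaximal := Ideal.isMaximal_comap_of_isIntegral_of_isMaximal Q
    exact (comap_comap_inc C' Q).trans (by rw [IsLocalRing.eq_maximalIdeal hQm, hmC])
  refine ⟨((Pi.basisFun (C' ⊗[C] A) (Fin n)).map (LinearEquiv.ofBijective Φ hbij)).reindex Equiv.ulift.symm, fun j => ?_⟩
  simp only [Module.Basis.reindex_apply, Equiv.symm_symm, Module.Basis.map_apply, Pi.basisFun_apply,
    LinearEquiv.ofBijective_apply, Φ, Fintype.linearCombination_apply_single, one_smul]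
  rfl

set_option maxHeartbeats 800000 in
theorem basis_of_theta (H : Hyp σ τ π c p ε a) (P : Ideal C) (n : ℕ)
    (hn : ∀ (q : Ideal A) [q.IsPrime], q.comap (algebraMap C A) = P → σ.toRingHom.finrank ⟨q, inferInstance⟩ = n)
    (C' : Type u) [CommRing C'] [Algebra C C'] [IsLocalRing C'] [Module.Flat C C']
    (θ : MvPolynomial (Fin n × Fin N) C →+* C') (hθ : θ.comp MvPolynomial.C = algebraMap C C')
    (hm : (IsLocalRing.maximalIdeal C').comap θ = primeExt (Fin n × Fin N) P)
    (hmC : (IsLocalRing.maximalIdeal C').comap (algebraMap C C') = P) :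
    ∃ b : Module.Basis (ULift.{u} (Fin n)) C' (C' ⊗[C] A),
      ∀ j, b j ∈ Submodule.span C' (Set.range fun i => (1 : C') ⊗ₜ[C] a i) := by
  let x : Fin n → C' ⊗[C] A := fun j => ∑ i, θ (MvPolynomial.X (j, i)) ⊗ₜ[C] a i
  have hB := exists_basis_bB H P n hn C' θ hθ hm hmC x fun _ => rfl
  obtain ⟨b, hb⟩ := basis_bc C' σ τ π c p ε H.h₁ H.h₂ H.hτ H.hεσ H.hετ H.inj H.inv (fun j => x j.down)
    (I := ULift.{u} (Fin n)) (by with_reducible exact hB)
  refine ⟨b, fun j => ?_⟩
  rw [hb]
  refine Submodule.sum_mem _ fun i _ => ?_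
  rw [show θ (MvPolynomial.X (j.down, i)) ⊗ₜ[C] a i =
    θ (MvPolynomial.X (j.down, i)) • ((1 : C') ⊗ₜ[C] a i) by
    rw [TensorProduct.smul_tmul', smul_eq_mul, mul_one]]
  exact Submodule.smul_mem _ _ (Submodule.subset_span ⟨i, rfl⟩)

theorem exists_localRing (P : Ideal C) [P.IsPrime] (T : Type) :
    ∃ (C' : Type u) (_ : CommRing C') (_ : Algebra C C') (_ : IsLocalRing C') (θ : MvPolynomial T C →+* C'),
      Module.Flat C C' ∧ θ.comp MvPolynomial.C = algebraMap C C' ∧
        (IsLocalRing.maximalIdeal C').comap θ = primeExt T P ∧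
        (IsLocalRing.maximalIdeal C').comap (algebraMap C C') = P := by
  haveI hPp : (primeExt T P).IsPrime := RingHom.ker_isPrime _
  let C' := Localization.AtPrime (primeExt T P)
  haveI : Module.Flat (MvPolynomial T C) C' := IsLocalization.flat C' (primeExt T P).primeCompl
  have hm : (IsLocalRing.maximalIdeal C').comap (algebraMap (MvPolynomial T C) C') = primeExt T P :=
    IsLocalization.AtPrime.under_maximalIdeal C' _
  refine ⟨C', inferInstance, inferInstance, inferInstance, algebraMap _ C', Module.Flat.trans C (MvPolynomial T C) C',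
    (IsScalarTower.algebraMap_eq C (MvPolynomial T C) C').symm, hm, ?_⟩
  rw [IsScalarTower.algebraMap_eq C (MvPolynomial T C) C', ← Ideal.comap_comap, hm]
  ext x
  rw [Ideal.mem_comap, RingHom.mem_ker, MvPolynomial.algebraMap_eq, MvPolynomial.map_C,
    MvPolynomial.C_eq_zero, Ideal.Quotient.eq_zero_iff_mem]

theorem local_basis (H : Hyp σ τ π c p ε a) (P : Ideal C) [P.IsPrime] (n : ℕ)
    (hn : ∀ (q : Ideal A) [q.IsPrime], q.comap (algebraMap C A) = P → σ.toRingHom.finrank ⟨q, inferInstance⟩ = n) :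
    ∃ (C' : Type u) (_ : CommRing C') (_ : Algebra C C'), Module.Flat C C' ∧
      (∃ m : Ideal C', m.IsPrime ∧ m.comap (algebraMap C C') = P) ∧
      ∃ b : Module.Basis (ULift.{u} (Fin n)) C' (C' ⊗[C] A),
        ∀ j, b j ∈ Submodule.span C' (Set.range fun i => (1 : C') ⊗ₜ[C] a i) := by
  obtain ⟨C', i₁, i₂, i₃, θ, hfl, hθ, hm, hmC⟩ := exists_localRing P (Fin n × Fin N)
  exact ⟨C', i₁, i₂, hfl, ⟨_, inferInstance, hmC⟩, basis_of_theta H P n hn C' θ hθ hm hmC⟩

theorem eq_zero_of_baseChange {X : Type u} [AddCommGroup X] [Module C X] (x : X)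
    (h : ∀ P : Ideal C, P.IsPrime → ∃ (C' : Type u) (_ : CommRing C') (_ : Algebra C C'), Module.Flat C C' ∧
      (∃ m : Ideal C', m.IsPrime ∧ m.comap (algebraMap C C') = P) ∧ (1 : C') ⊗ₜ[C] x = 0) : x = 0 := by
  let I := LinearMap.ker (LinearMap.toSpanSingleton C X x)
  suffices I = ⊤ by simpa [I] using (show (1 : C) ∈ I from this ▸ Submodule.mem_top)
  by_contra hne
  obtain ⟨P, hP, hle⟩ := Ideal.exists_le_maximal I hne
  obtain ⟨C', _, _, hfl, ⟨m, hm, hmP⟩, hx⟩ := h P hP.isPrime
  have hex : Function.Exact I.subtype (LinearMap.toSpanSingleton C X x) := LinearMap.exact_subtype_ker_map _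
  obtain ⟨y, hy⟩ := (Module.Flat.lTensor_exact C' hex ((1 : C') ⊗ₜ[C] 1)).1 (by simpa using hx)
  have : ∀ y, TensorProduct.rid C C' (I.subtype.lTensor C' y) ∈ m := by
    intro y
    induction y using TensorProduct.induction_on with
    | zero => simp
    | add a b ha hb => simp only [map_add]; exact add_mem ha hb
    | tmul d r =>
      simp only [LinearMap.lTensor_tmul, Submodule.subtype_apply, TensorProduct.rid_tmul, Algebra.smul_def]
      exact Ideal.mul_mem_right _ _ (Ideal.mem_comap.1 (hmP.symm ▸ hle r.2))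
  refine hm.ne_top ((Ideal.eq_top_iff_one _).2 ?_)
  simpa [hy] using this y

theorem finite (H : Hyp σ τ π c p ε a) : Module.Finite C A := by
  refine ⟨Submodule.fg_def.2 ⟨_, Set.finite_range a, eq_top_iff.2 fun x _ => ?_⟩⟩
  rw [← Submodule.Quotient.mk_eq_zero]
  refine eq_zero_of_baseChange (C := C) _ fun P hP => ?_
  obtain ⟨n, hn⟩ := H.rank P hP
  obtain ⟨C', i₁, i₂, hfl, hm, b, hb⟩ := local_basis H P n hn
  refine ⟨C', i₁, i₂, hfl, hm, ?_⟩
  let N' := Submodule.span C (Set.range a)
  let f : C' ⊗[C] A →ₗ[C'] C' ⊗[C] (A ⧸ N') := N'.mkQ.baseChange C'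
  have hf : f = 0 := by
    refine b.ext fun j => ?_
    refine Submodule.span_induction (p := fun u _ => f u = 0) ?_ (by simp) (fun u v _ _ hu hv => by simp [hu, hv])
      (fun r u _ hu => by simp [hu]) (hb j)
    rintro _ ⟨i, rfl⟩
    show (1 : C') ⊗ₜ[C] N'.mkQ (a i) = 0
    rw [Submodule.mkQ_apply, (Submodule.Quotient.mk_eq_zero _).2 (show a i ∈ N' from Submodule.subset_span ⟨i, rfl⟩),
      TensorProduct.tmul_zero]
  exact LinearMap.congr_fun hf ((1 : C') ⊗ₜ[C] x)

theorem flat (H : Hyp σ τ π c p ε a) : Module.Flat C A := by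
  rw [Module.Flat.iff_lTensor_preserves_injective_linearMap]
  intro M M' _ _ _ _ f hf
  refine (injective_iff_map_eq_zero _).2 fun x hx => eq_zero_of_baseChange (C := C) x fun P hP => ?_
  obtain ⟨n, hn⟩ := H.rank P hP
  obtain ⟨C', i₁, i₂, hfl, hm, b, -⟩ := local_basis H P n hn
  refine ⟨C', i₁, i₂, hfl, hm, ?_⟩
  have : Module.Free C' (C' ⊗[C] A) := Module.Free.of_basis b
  have : Module.Flat C (C' ⊗[C] A) := Module.Flat.trans C C' _
  have h2 := Module.Flat.lTensor_preserves_injective_linearMap (M := C' ⊗[C] A) f hf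
  apply (TensorProduct.assoc C C' A M).symm.injective
  apply h2
  rw [map_zero, map_zero, LinearMap.lTensor_tensor]
  simp only [LinearMap.comp_apply, LinearEquiv.coe_coe, LinearEquiv.apply_symm_apply]
  rw [LinearMap.lTensor_tmul, hx, TensorProduct.tmul_zero, map_zero]

theorem rank_eq (H : Hyp σ τ π c p ε a) (q : Ideal A) [q.IsPrime] :
    haveI := finite H; haveI := flat H
    Module.rankAtStalk (R := C) A ⟨q.comap (algebraMap C A), inferInstance⟩ = σ.toRingHom.finrank ⟨q, inferInstance⟩ := by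
  haveI := finite H; haveI := flat H
  let P := q.comap (algebraMap C A)
  obtain ⟨n, hn⟩ := H.rank P inferInstance
  obtain ⟨C', i₁, i₂, hfl, ⟨m, hm, hmP⟩, b, -⟩ := local_basis H P n hn
  have : Module.Free C' (C' ⊗[C] A) := Module.Free.of_basis b
  have : Nontrivial C' := ⟨⟨0, 1, fun h => hm.ne_top ((Ideal.eq_top_iff_one _).2 (h ▸ zero_mem _))⟩⟩
  have h := Module.rankAtStalk_baseChange (R := C) (M := A) (S := C') ⟨m, hm⟩
  rw [Module.rankAtStalk_eq_finrank_of_free, Pi.natCast_def, Module.finrank_eq_card_basis b,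
    Fintype.card_ulift, Fintype.card_fin] at h
  rw [hn q rfl]
  refine Eq.trans ?_ h.symm
  congr 1
  exact PrimeSpectrum.ext hmP.symm

/-- the comparison map -/
def compare (σ τ : A →ₐ[C] B) : A ⊗[C] A →ₐ[C] B := Algebra.TensorProduct.lift σ τ fun _ _ => Commute.all _ _

theorem compare_bijective (H : Hyp σ τ π c p ε a) : Function.Bijective (compare σ τ) := by
  haveI := finite H; haveI := flat H
  letI : Algebra A B := σ.toRingHom.toAlgebra
  have : Module.Finite A B := H.finite
  have : Module.Flat A B := H.flat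
  let Φ : A ⊗[C] A →ₗ[A] B :=
    { toFun := compare σ τ
      map_add' := map_add _
      map_smul' := fun r z => by
        induction z using TensorProduct.induction_on with
        | zero => simp
        | add u v hu hv => simp only [smul_add, map_add, hu, hv]
        | tmul d e =>
          rw [TensorProduct.smul_tmul', compare, Algebra.TensorProduct.lift_tmul, Algebra.TensorProduct.lift_tmul,
            smul_eq_mul, map_mul, RingHom.id_apply, Algebra.smul_def, mul_assoc]
          rfl }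
  have hs : Function.Surjective Φ := by
    rw [← LinearMap.range_eq_top, eq_top_iff, ← H.span, Submodule.span_le]
    rintro _ ⟨i, rfl⟩
    exact ⟨1 ⊗ₜ a i, by simp [Φ, compare]⟩
  exact Module.bijective_of_surjective_of_rankAtStalk_eq (R := A) (φ := Φ) hs fun Q hQ =>
    (Module.rankAtStalk_baseChange (R := C) (M := A) (S := A) ⟨Q, hQ.isPrime⟩).trans (rank_eq H Q)

set_option maxHeartbeats 800000 in
theorem finitePresentation (H : Hyp σ τ π c p ε a) : Algebra.FinitePresentation C A := by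
  haveI := finite H; haveI := flat H
  haveI := H.integral
  haveI : Module.FaithfullyFlat C A := Module.FaithfullyFlat.of_comap_surjective fun P => by
    haveI : FaithfulSMul C A := (faithfulSMul_iff_algebraMap_injective C A).2 H.inj
    obtain ⟨Q, hQ, hQP⟩ := Ideal.exists_ideal_over_prime_of_isIntegral P.asIdeal (⊥ : Ideal A) (fun d hd => by
      rw [Ideal.mem_comap, Ideal.mem_bot] at hd
      rw [H.inj (hd.trans (map_zero _).symm)]
      exact zero_mem _)
    exact ⟨⟨Q, hQP.1⟩, PrimeSpectrum.ext hQP.2⟩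
  letI : Algebra A B := σ.toRingHom.toAlgebra
  have : Algebra.FinitePresentation A B := H.fp
  let Φ : A ⊗[C] A →ₐ[A] B := { (compare σ τ).toRingHom with
    commutes' := fun r => by
      show compare σ τ (r ⊗ₜ 1) = σ r
      simp [compare] }
  have hcoe : ⇑Φ = ⇑(compare σ τ) := rfl
  have hΦ : Function.Bijective Φ := by rw [hcoe]; exact compare_bijective H
  haveI : Algebra.FinitePresentation A (A ⊗[C] A) :=
    Algebra.FinitePresentation.equiv (AlgEquiv.ofBijective Φ hΦ).symm
  exact Algebra.FinitePresentation.of_finitePresentation_tensorProduct_of_faithfullyFlat A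

end Groth.Agent.Grpd6.FlatQuotGlobal

end
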