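import Groth.Agent.Grpd6.Basic

/-!
The image of a morphism of groupoid schemes over a point: open or locally closed implies closed.
-/

universe u

open CategoryTheory AlgebraicGeometry Limits

set_option backward.isDefEq.respectTransparency.types false

noncomputable section

namespace Groth.Agent.Grpd6.Image

open Basic

attribute [local simp] pullback.lift_fst pullback.lift_snd pullback.lift_fst_assoc pullback.lift_snd_assoc
  Grpd.GroupoidScheme.i_s Grpd.GroupoidScheme.i_t Grpd.GroupoidScheme.e_s Grpd.GroupoidScheme.e_t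

variable {S : Scheme.{u}} {G₁ G₂ : Grpd.GroupoidScheme S} (a : Grpd.GroupoidScheme.Hom G₁ G₂)

theorem hom_comp {T : Scheme.{u}} (α β : T ⟶ G₁.R) (h : α ≫ G₁.s = β ≫ G₁.t) :
    comp G₁ α β h ≫ a.fR = comp G₂ (α ≫ a.fR) (β ≫ a.fR)
      (by rw [Category.assoc, Category.assoc, a.comm_s, a.comm_t, ← Category.assoc, ← Category.assoc, h]) :=
  a.comm_c α β h

theorem hom_e : G₁.e ≫ a.fR = a.fU ≫ G₂.e := by
  have h0 : G₁.e ≫ G₁.s = G₁.e ≫ G₁.t := by rw [G₁.e_s, G₁.e_t]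
  have h1 : comp G₁ G₁.e G₁.e h0 = G₁.e := by
    refine (comp_congr h0 ?_ rfl).trans (G₁.e_comp G₁.e)
    rw [← Category.assoc, G₁.e_t, Category.id_comp]
  have h2 := congrArg (· ≫ a.fR) h1
  simp only [hom_comp] at h2
  have hs : (G₁.e ≫ a.fR) ≫ G₂.s = a.fU := by rw [Category.assoc, a.comm_s, ← Category.assoc, G₁.e_s, Category.id_comp]
  have ht : (G₁.e ≫ a.fR) ≫ G₂.t = a.fU := by rw [Category.assoc, a.comm_t, ← Category.assoc, G₁.e_t, Category.id_comp]
  have h3 := inv_comp_cancel (G₁.e ≫ a.fR) (G₁.e ≫ a.fR) (hs.trans ht.symm) (by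
    rw [comp_t', Category.assoc (G₁.e ≫ a.fR), G₂.i_s])
  refine h3.symm.trans ((comp_congr _ rfl h2).trans ?_)
  refine (G₂.i_comp (G₁.e ≫ a.fR)).trans ?_
  rw [← Category.assoc, hs]

variable {k : Type u} [Field k] (eU : G₂.U ≅ Spec (CommRingCat.of k)) [IsIso a.fU]

/-- Two points in the image lift simultaneously and composably. -/
theorem mul_mem {T : Scheme.{u}} (α β : T ⟶ G₂.R) (h : α ≫ G₂.s = β ≫ G₂.t) (w : T)
    (hα : α w ∈ Set.range a.fR) (hβ : β w ∈ Set.range a.fR) : comp G₂ α β h w ∈ Set.range a.fR := by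
  obtain ⟨x, hx⟩ := hα
  obtain ⟨y, hy⟩ := hβ
  obtain ⟨z₁, -, hz₁⟩ := Scheme.Pullback.exists_preimage_pullback (f := a.fR) (g := α) x w hx
  obtain ⟨z₂, -, hz₂⟩ := Scheme.Pullback.exists_preimage_pullback (f := a.fR)
    (g := pullback.snd a.fR α ≫ β) y z₁ (by rw [Scheme.Hom.comp_apply, hz₁, hy])
  let q := pullback.snd a.fR (pullback.snd a.fR α ≫ β) ≫ pullback.snd a.fR α
  let h₁ := pullback.snd a.fR (pullback.snd a.fR α ≫ β) ≫ pullback.fst a.fR α
  let h₂ := pullback.fst a.fR (pullback.snd a.fR α ≫ β)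
  have e₁ : h₁ ≫ a.fR = q ≫ α := by simp [h₁, q, pullback.condition]
  have e₂ : h₂ ≫ a.fR = q ≫ β := by simp [h₂, q, pullback.condition]
  have hh : h₁ ≫ G₁.s = h₂ ≫ G₁.t := by
    rw [← cancel_mono a.fU, Category.assoc h₁, Category.assoc h₂, ← a.comm_s, ← a.comm_t, ← Category.assoc,
      ← Category.assoc, e₁, e₂, Category.assoc, Category.assoc, h]
    simp [q]
  have e : comp G₁ h₁ h₂ hh ≫ a.fR = q ≫ comp G₂ α β h := by
    rw [hom_comp, comp_pre]
    exact comp_congr _ e₁ e₂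
  refine ⟨comp G₁ h₁ h₂ hh z₂, ?_⟩
  rw [← Scheme.Hom.comp_apply, e, Scheme.Hom.comp_apply, Scheme.Hom.comp_apply, hz₂, hz₁]

theorem hom_i : G₁.i ≫ a.fR = a.fR ≫ G₂.i := by
  have h0 : G₁.i ≫ G₁.s = 𝟙 G₁.R ≫ G₁.t := by simp
  have h1 : comp G₁ G₁.i (𝟙 G₁.R) h0 = G₁.s ≫ G₁.e :=
    (comp_congr h0 (Category.id_comp G₁.i).symm rfl).trans ((G₁.i_comp (𝟙 G₁.R)).trans (Category.id_comp _))
  have h2 := congrArg (· ≫ a.fR) h1
  simp only [hom_comp, Category.assoc, hom_e, Category.id_comp] at h2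
  have h2' := h2.trans (show G₁.s ≫ a.fU ≫ G₂.e = a.fR ≫ G₂.s ≫ G₂.e by
    rw [← Category.assoc, ← a.comm_s, Category.assoc])
  have h4 : (G₁.i ≫ a.fR) ≫ G₂.s = a.fR ≫ G₂.t := by
    rw [Category.assoc, a.comm_s, a.comm_t, ← Category.assoc, G₁.i_s]
  have h5 := comp_inv_cancel (G₁.i ≫ a.fR) a.fR h4 (by rw [comp_s', Category.assoc, G₂.i_t])
  refine h5.symm.trans ((comp_congr _ h2' rfl).trans ?_)
  refine Eq.trans (comp_congr _ ?_ rfl) (G₂.e_comp (a.fR ≫ G₂.i))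
  simp

theorem inv_mem {T : Scheme.{u}} (α : T ⟶ G₂.R) (w : T) (hα : α w ∈ Set.range a.fR) :
    (α ≫ G₂.i) w ∈ Set.range a.fR := by
  obtain ⟨x, hx⟩ := hα
  exact ⟨G₁.i x, by rw [← Scheme.Hom.comp_apply, hom_i, Scheme.Hom.comp_apply, hx, Scheme.Hom.comp_apply]⟩

theorem one_mem {T : Scheme.{u}} (f : T ⟶ G₂.U) (w : T) : (f ≫ G₂.e) w ∈ Set.range a.fR := by
  obtain ⟨u', hu⟩ := a.fU.homeomorph.surjective (f w)
  exact ⟨G₁.e u', by rw [← Scheme.Hom.comp_apply, hom_e, Scheme.Hom.comp_apply, Scheme.Hom.comp_apply, ← hu]; rfl⟩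

include eU in
theorem isClosed_range_of_isOpen (hI : IsOpen (Set.range a.fR)) : IsClosed (Set.range a.fR) := by
  rw [← isOpen_compl_iff, isOpen_iff_forall_mem_open]
  intro x hx
  let p := G₂.R.fromSpecResidueField x
  have := universallyOpen_of_field eU (p ≫ G₂.t)
  let pA := pullback.snd (p ≫ G₂.s) G₂.t
  let pB := pullback.snd (p ≫ G₂.t) G₂.t
  let φ := shearHom G₂ p
  have : IsIso φ := (shear G₂ p).isIso_hom
  refine ⟨pB '' (φ '' (pA ⁻¹' Set.range a.fR)), ?_,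
    pB.isOpenMap _ (φ.isOpenEmbedding.isOpenMap _ (hI.preimage pA.continuous)), ?_⟩
  · rintro _ ⟨_, ⟨v, hv, rfl⟩, rfl⟩ hmem
    refine hx ?_
    have h0 : (pullback.fst (p ≫ G₂.s) G₂.t ≫ p) ≫ G₂.s = pA ≫ G₂.t := by
      rw [Category.assoc]; exact pullback.condition
    have e : φ ≫ pB = comp G₂ (pullback.fst (p ≫ G₂.s) G₂.t ≫ p) pA h0 := pullback.lift_snd _ _ _
    rw [← Scheme.Hom.comp_apply, e] at hmem
    have h' := mul_mem a _ (pA ≫ G₂.i) (by rw [comp_s', Category.assoc, G₂.i_t]) v hmem (inv_mem a pA v hv)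
    rw [comp_inv_cancel _ _ h0 (by rw [comp_s', Category.assoc, G₂.i_t])] at h'
    rwa [Scheme.Hom.comp_apply, Scheme.fromSpecResidueField_apply] at h'
  · let σ : Spec (G₂.R.residueField x) ⟶ pullback (p ≫ G₂.s) G₂.t :=
      pullback.lift (𝟙 _) ((p ≫ G₂.s) ≫ G₂.e) (by simp)
    let pt := IsLocalRing.closedPoint (G₂.R.residueField x)
    refine ⟨φ (σ pt), ⟨σ pt, ?_, rfl⟩, ?_⟩
    · show pA (σ pt) ∈ Set.range a.fR
      rw [← Scheme.Hom.comp_apply, pullback.lift_snd]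
      exact one_mem a (p ≫ G₂.s) pt
    · rw [← Scheme.Hom.comp_apply, ← Scheme.Hom.comp_apply]
      have e : (σ ≫ φ) ≫ pB = p := by
        rw [Category.assoc, show φ ≫ pB = comp G₂ _ _ _ from pullback.lift_snd _ _ _, comp_pre]
        refine (comp_congr _ (by simp [σ]) (show σ ≫ pullback.snd (p ≫ G₂.s) G₂.t = p ≫ G₂.s ≫ G₂.e by
          simp [σ])).trans (G₂.comp_e p)
      rw [← Category.assoc, e]
      exact Scheme.fromSpecResidueField_apply _ _

include eU in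
theorem closure_mul_mem {T : Scheme.{u}} (α β : T ⟶ G₂.R) (h : α ≫ G₂.s = β ≫ G₂.t) (w : T)
    (hα : α w ∈ closure (Set.range a.fR)) (hβ : β w ∈ Set.range a.fR) :
    comp G₂ α β h w ∈ closure (Set.range a.fR) := by
  let r := T.fromSpecResidueField w
  have := universallyOpen_of_field eU ((r ≫ β) ≫ G₂.t)
  let pr := pullback.fst G₂.s ((r ≫ β) ≫ G₂.t)
  let f := comp G₂ pr (pullback.snd G₂.s ((r ≫ β) ≫ G₂.t) ≫ r ≫ β)
    (pullback.condition.trans (by simp only [Category.assoc]))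
  have hmaps : ∀ v ∈ pr ⁻¹' Set.range a.fR, f v ∈ Set.range a.fR := fun v hv => by
    refine mul_mem a _ _ _ v hv ?_
    rw [Scheme.Hom.comp_apply, Scheme.Hom.comp_apply, Scheme.fromSpecResidueField_apply]
    exact hβ
  let σ : Spec (T.residueField w) ⟶ pullback G₂.s ((r ≫ β) ≫ G₂.t) :=
    pullback.lift (r ≫ α) (𝟙 _) (by rw [Category.id_comp, Category.assoc, h, Category.assoc])
  let pt := IsLocalRing.closedPoint (T.residueField w)
  have hσ : σ pt ∈ closure (pr ⁻¹' Set.range a.fR) := by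
    rw [← pr.isOpenMap.preimage_closure_eq_closure_preimage pr.continuous]
    show pr (σ pt) ∈ closure (Set.range a.fR)
    rw [← Scheme.Hom.comp_apply, pullback.lift_fst, Scheme.Hom.comp_apply, Scheme.fromSpecResidueField_apply]
    exact hα
  have h2 := map_mem_closure f.continuous hσ hmaps
  have e : σ ≫ f = r ≫ comp G₂ α β h := by
    rw [comp_pre, comp_pre]
    exact comp_congr _ (by simp [σ, pr]) (by simp [σ])
  rwa [← Scheme.Hom.comp_apply, e, Scheme.Hom.comp_apply, Scheme.fromSpecResidueField_apply] at h2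

theorem closure_inv_mem {T : Scheme.{u}} (α : T ⟶ G₂.R) (w : T) (hα : α w ∈ closure (Set.range a.fR)) :
    (α ≫ G₂.i) w ∈ closure (Set.range a.fR) := by
  rw [Scheme.Hom.comp_apply]
  refine map_mem_closure G₂.i.continuous hα fun v hv => ?_
  obtain ⟨x, rfl⟩ := hv
  exact ⟨G₁.i x, by rw [← Scheme.Hom.comp_apply, hom_i, Scheme.Hom.comp_apply]⟩

include eU in
theorem isClosed_range_of_isLocallyClosed (hI : IsLocallyClosed (Set.range a.fR)) :
    IsClosed (Set.range a.fR) := by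
  refine closure_subset_iff_isClosed.1 fun x hx => ?_
  let p := G₂.R.fromSpecResidueField x
  have := universallyOpen_of_field eU (p ≫ G₂.s)
  let pA := pullback.snd (p ≫ G₂.s) G₂.t
  let pB := pullback.snd (p ≫ G₂.t) G₂.t
  let φ := shearHom G₂ p
  let ψ := shearInv G₂ p
  obtain ⟨U, Z, hU, hZ, hR⟩ := hI
  have hincl : closure (Set.range a.fR) ⊆ Z := closure_minimal (hR ▸ Set.inter_subset_right) hZ
  have hA : (pullback.fst (p ≫ G₂.s) G₂.t ≫ p) ≫ G₂.s = pA ≫ G₂.t := by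
    rw [Category.assoc]; exact pullback.condition
  have eφ : φ ≫ pB = comp G₂ (pullback.fst (p ≫ G₂.s) G₂.t ≫ p) pA hA := pullback.lift_snd _ _ _
  have hfwd : ∀ v, pA v ∈ Set.range a.fR → pB (φ v) ∈ closure (Set.range a.fR) := fun v hv => by
    rw [← Scheme.Hom.comp_apply, eφ]
    refine closure_mul_mem a eU _ _ hA v ?_ hv
    rw [Scheme.Hom.comp_apply, Scheme.fromSpecResidueField_apply]
    exact hx
  have hB : ((pullback.fst (p ≫ G₂.t) G₂.t ≫ p) ≫ G₂.i) ≫ G₂.s = pB ≫ G₂.t := by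
    rw [Category.assoc, G₂.i_s, Category.assoc]; exact pullback.condition
  have hbwd : ∀ v, pB v ∈ Set.range a.fR → pA (ψ v) ∈ closure (Set.range a.fR) := fun v hv => by
    rw [← Scheme.Hom.comp_apply, show ψ ≫ pA = comp G₂ _ pB hB from pullback.lift_snd _ _ _]
    refine closure_mul_mem a eU _ _ hB v (closure_inv_mem a _ v ?_) hv
    rw [Scheme.Hom.comp_apply, Scheme.fromSpecResidueField_apply]
    exact hx
  let σ : Spec (G₂.R.residueField x) ⟶ pullback (p ≫ G₂.t) G₂.t :=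
    pullback.lift (𝟙 _) ((p ≫ G₂.t) ≫ G₂.e) (by simp)
  let v₀ := σ (IsLocalRing.closedPoint (G₂.R.residueField x))
  have hv₀ : pB v₀ ∈ Set.range a.fR := by
    rw [← Scheme.Hom.comp_apply, pullback.lift_snd]
    exact one_mem a (p ≫ G₂.t) _
  have hmeet : ψ v₀ ∈ φ ⁻¹' (pB ⁻¹' U) := by
    show pB (φ (ψ v₀)) ∈ U
    rw [← Scheme.Hom.comp_apply ψ φ, shear_inv_hom p]
    exact (hR ▸ hv₀ : pB v₀ ∈ U ∩ Z).1
  have hmem : ψ v₀ ∈ closure (pA ⁻¹' Set.range a.fR) := by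
    rw [← pA.isOpenMap.preimage_closure_eq_closure_preimage pA.continuous]
    exact hbwd v₀ hv₀
  obtain ⟨v, hvU, hvR⟩ := mem_closure_iff.1 hmem _ ((hU.preimage pB.continuous).preimage φ.continuous) hmeet
  have hvR' : pB (φ v) ∈ Set.range a.fR := hR ▸ ⟨hvU, hincl (hfwd v hvR)⟩
  rw [← Scheme.Hom.comp_apply, eφ] at hvR'
  have h' := mul_mem a _ (pA ≫ G₂.i) (by rw [comp_s', Category.assoc, G₂.i_t]) v hvR' (inv_mem a pA v hvR)
  rw [comp_inv_cancel _ _ hA (by rw [comp_s', Category.assoc, G₂.i_t])] at h'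
  rwa [Scheme.Hom.comp_apply, Scheme.fromSpecResidueField_apply] at h'

end Groth.Agent.Grpd6.Image

end
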