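import Groth.Agent.Grpd6.Basic
import Mathlib.AlgebraicGeometry.Morphisms.Affine
import Mathlib.LinearAlgebra.Charpoly.BaseChange
import Mathlib.RingTheory.Norm.Basic

/-!
The norm of a pulled back function is invariant.
-/

universe u

open CategoryTheory AlgebraicGeometry Limits TensorProduct

set_option backward.isDefEq.respectTransparency.types false

noncomputable section

namespace Groth.Agent.Grpd6.Norm

/-- norm with respect to a ring homomorphism -/
def nm {A B : Type u} [CommRing A] [CommRing B] (σ : A →+* B) (b : B) : A :=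
  letI := σ.toAlgebra
  Algebra.norm A b

theorem nm_baseChange {A B A' B' : CommRingCat.{u}} (σ : A ⟶ B) (φ : A ⟶ A') (σ' : A' ⟶ B') (g : B ⟶ B')
    (h : IsPushout φ σ σ' g) {I : Type u} [Finite I]
    (hb : letI := σ.hom.toAlgebra; Nonempty (Module.Basis I A B)) (b : B) :
    nm σ'.hom (g.hom b) = φ.hom (nm σ.hom b) := by
  letI : Algebra A B := σ.hom.toAlgebra
  letI : Algebra A A' := φ.hom.toAlgebra
  letI : Algebra A' B' := σ'.hom.toAlgebra
  letI : Algebra B B' := g.hom.toAlgebra
  letI : Algebra A B' := (σ'.hom.comp φ.hom).toAlgebra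
  haveI : IsScalarTower A A' B' := IsScalarTower.of_algebraMap_eq' rfl
  haveI : IsScalarTower A B B' := IsScalarTower.of_algebraMap_eq'
    (show σ'.hom.comp φ.hom = g.hom.comp σ.hom from congrArg CommRingCat.Hom.hom h.w)
  haveI : Algebra.IsPushout A A' B B' := CommRingCat.isPushout_iff_isPushout.mp h
  let e : A' ⊗[A] B ≃ₐ[A'] B' := Algebra.IsPushout.equiv A A' B B'
  obtain ⟨bs⟩ := hb
  haveI : Module.Free A B := Module.Free.of_basis bs
  haveI : Module.Finite A B := Module.Finite.of_basis bs
  have he : e (1 ⊗ₜ[A] b) = g.hom b := by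
    simp [e, Algebra.IsPushout.equiv_tmul, RingHom.algebraMap_toAlgebra]
  show Algebra.norm A' (g.hom b) = algebraMap A A' (Algebra.norm A b)
  rw [← he, Algebra.norm_eq_of_algEquiv e]
  rw [Algebra.norm_apply, Algebra.norm_apply, ← Algebra.baseChange_lmul, LinearMap.det_baseChange]

variable {S : Scheme.{u}} {G : Grpd.GroupoidScheme S}

open Basic

theorem mem_invariants [IsAffine G.U] [IsAffine G.R] (f : Γ(G.U, ⊤)) : G.normST f ∈ G.invariants := by
  show G.s.appTop.hom (nm G.s.appTop.hom (G.t.appTop.hom f)) = G.t.appTop.hom (nm G.s.appTop.hom (G.t.appTop.hom f))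
  by_cases hb : letI := G.s.appTop.hom.toAlgebra; ∃ s : Finset Γ(G.R, ⊤), Nonempty (Module.Basis s Γ(G.U, ⊤) Γ(G.R, ⊤))
  · obtain ⟨s, hs⟩ := hb
    have h1 := isPushout_appTop_of_isPullback (isPullback_c (G := G))
    have h2 := isPushout_appTop_of_isPullback (IsPullback.of_hasPullback G.s G.t)
    have e1 := nm_baseChange G.s.appTop G.s.appTop (pullback.snd G.s G.t).appTop G.c.appTop h1.flip hs
      (G.t.appTop.hom f)
    have e2 := nm_baseChange G.s.appTop G.t.appTop (pullback.snd G.s G.t).appTop (pullback.fst G.s G.t).appTop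
      h2.flip hs (G.t.appTop.hom f)
    have hc : G.c ≫ G.t = pullback.fst G.s G.t ≫ G.t := by
      have := G.comp_t (pullback.fst G.s G.t) (pullback.snd G.s G.t) pullback.condition
      rwa [show pullback.lift (pullback.fst G.s G.t) (pullback.snd G.s G.t) pullback.condition = 𝟙 _ by
        apply pullback.hom_ext <;> simp [pullback.lift_fst, pullback.lift_snd], Category.id_comp] at this
    rw [← e1, ← e2]
    congr 1
    exact congrArg (fun φ : pullback G.s G.t ⟶ G.U => φ.appTop.hom f) hc
  · letI := G.s.appTop.hom.toAlgebra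
    have : nm G.s.appTop.hom (G.t.appTop.hom f) = 1 := Algebra.norm_eq_one_of_not_exists_basis _ hb _
    rw [this, map_one, map_one]

end Groth.Agent.Grpd6.Norm

end
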