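import Groth.Agent.Grpd6.Basic
import Mathlib.AlgebraicGeometry.Morphisms.QuasiSeparated

/-!
Separation of `j` via the stabilizer and the identity section.
-/

universe u

open CategoryTheory AlgebraicGeometry Limits

set_option backward.isDefEq.respectTransparency.types false

noncomputable section

namespace Groth.Agent.Grpd6.SepJ

open Basic

attribute [local simp] pullback.lift_fst pullback.lift_snd pullback.lift_fst_assoc pullback.lift_snd_assoc
  Grpd.GroupoidScheme.i_s Grpd.GroupoidScheme.i_t Grpd.GroupoidScheme.e_s Grpd.GroupoidScheme.e_t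

variable {S : Scheme.{u}} (G : Grpd.GroupoidScheme S)

theorem eStab_toU : G.eStab ≫ G.stabilizerToU = 𝟙 G.U := pullback.lift_snd _ _ _

theorem diagonal_of_eStab (P : MorphismProperty Scheme.{u}) [P.IsStableUnderBaseChange] [P.RespectsIso]
    (h : P G.eStab) : P (pullback.diagonal G.j) := by
  let α : pullback G.stabilizerToU G.t ⟶ pullback G.s G.t :=
    pullback.lift (pullback.fst G.stabilizerToU G.t ≫ pullback.fst G.j G.diag) (pullback.snd G.stabilizerToU G.t) (by
      have h1 := pullback.condition (f := G.j) (g := G.diag)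
      have h2 := congrArg (· ≫ pullback.snd G.pU G.pU) h1
      simp [Grpd.GroupoidScheme.j, Grpd.GroupoidScheme.diag] at h2
      rw [Category.assoc]
      refine Eq.trans ?_ pullback.condition
      exact congrArg (pullback.fst G.stabilizerToU G.t ≫ ·) h2)
  have hst : (α ≫ G.c) ≫ G.s = pullback.snd G.stabilizerToU G.t ≫ G.s := G.comp_s _ _ _
  have hts : (α ≫ G.c) ≫ G.t = pullback.snd G.stabilizerToU G.t ≫ G.t := by
    refine (G.comp_t _ _ _).trans ?_
    have h1 := congrArg (· ≫ pullback.fst G.pU G.pU) (pullback.condition (f := G.j) (g := G.diag))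
    simp [Grpd.GroupoidScheme.j, Grpd.GroupoidScheme.diag] at h1
    rw [Category.assoc]
    exact (congrArg (pullback.fst G.stabilizerToU G.t ≫ ·) h1).trans pullback.condition
  let β : pullback G.stabilizerToU G.t ⟶ pullback G.j G.j :=
    pullback.lift (α ≫ G.c) (pullback.snd G.stabilizerToU G.t) (by
      apply pullback.hom_ext
      · simp only [Grpd.GroupoidScheme.j, Category.assoc, pullback.lift_fst]
        simpa only [Category.assoc] using hts
      · simp only [Grpd.GroupoidScheme.j, Category.assoc, pullback.lift_snd]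
        simpa only [Category.assoc] using hst)
  have : IsIso β := pseudoTorsor α (pullback.lift_fst _ _ _) (pullback.lift_snd _ _ _) β
    (pullback.lift_fst _ _ _) (pullback.lift_snd _ _ _)
  let σ : G.R ⟶ pullback G.stabilizerToU G.t := pullback.lift (G.t ≫ G.eStab) (𝟙 _)
    (by rw [Category.assoc, eStab_toU, Category.comp_id, Category.id_comp])
  have hσ : IsPullback σ G.t (pullback.fst G.stabilizerToU G.t) G.eStab := by
    have hbig : IsPullback (σ ≫ pullback.snd G.stabilizerToU G.t) G.t G.t (G.eStab ≫ G.stabilizerToU) := by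
      rw [show σ ≫ pullback.snd _ _ = 𝟙 G.R from pullback.lift_snd _ _ _, eStab_toU]
      exact IsPullback.id_horiz G.t
    exact IsPullback.of_right hbig (pullback.lift_fst _ _ _) (IsPullback.of_hasPullback _ _).flip
  have hd : pullback.diagonal G.j = σ ≫ β := by
    apply pullback.hom_ext
    · rw [pullback.diagonal_fst, Category.assoc, pullback.lift_fst, ← Category.assoc]
      have : σ ≫ α = pullback.lift (𝟙 G.R ≫ G.t ≫ G.e) (𝟙 G.R) (by simp) := by
        apply pullback.hom_ext
        · simp [σ, α]
          exact congrArg (G.t ≫ ·) (pullback.lift_fst G.e (𝟙 G.U) _)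
        · simp [σ, α]
      rw [this]
      exact (G.e_comp (𝟙 G.R)).symm
    · simp [σ, β]
  rw [hd, MorphismProperty.cancel_right_of_respectsIso P]
  exact MorphismProperty.of_isPullback hσ.flip h

theorem tfae : ((IsSeparated G.j ↔ IsSeparated G.stabilizerToU) ∧
    (IsSeparated G.stabilizerToU ↔ IsClosedImmersion G.eStab)) ∧
    ((QuasiSeparated G.j ↔ QuasiSeparated G.stabilizerToU) ∧
      (QuasiSeparated G.stabilizerToU ↔ QuasiCompact G.eStab)) := by
  have a₁ : IsSeparated G.j → IsSeparated G.stabilizerToU := fun h =>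
    MorphismProperty.pullback_snd (P := @IsSeparated) _ _ h
  have a₂ : QuasiSeparated G.j → QuasiSeparated G.stabilizerToU := fun h =>
    MorphismProperty.pullback_snd (P := @QuasiSeparated) _ _ h
  have b₁ : IsSeparated G.stabilizerToU → IsClosedImmersion G.eStab := fun h => by
    have : IsClosedImmersion (G.eStab ≫ G.stabilizerToU) := by rw [eStab_toU]; infer_instance
    exact IsClosedImmersion.of_comp _ G.stabilizerToU
  have b₂ : QuasiSeparated G.stabilizerToU → QuasiCompact G.eStab := fun h => by
    have : QuasiCompact (G.eStab ≫ G.stabilizerToU) := by rw [eStab_toU]; infer_instance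
    exact QuasiCompact.of_comp _ G.stabilizerToU
  have c₁ : IsClosedImmersion G.eStab → IsSeparated G.j := fun h =>
    ⟨diagonal_of_eStab G @IsClosedImmersion h⟩
  have c₂ : QuasiCompact G.eStab → QuasiSeparated G.j := fun h =>
    ⟨diagonal_of_eStab G @QuasiCompact h⟩
  exact ⟨⟨⟨a₁, c₁ ∘ b₁⟩, ⟨b₁, a₁ ∘ c₁⟩⟩, ⟨⟨a₂, c₂ ∘ b₂⟩, ⟨b₂, a₂ ∘ c₂⟩⟩⟩

end Groth.Agent.Grpd6.SepJ

end
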